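import Mathlib
import Cfsg.Agent.H681.DegBasic
import Cfsg.Agent.Characters.Values
import Cfsg.Agent.S0142
import Cfsg.Agent.S0189

/-!
# Irreducible characters of finite simple groups: elementary facts

`S` finite simple, nonabelian.

* `eq_one_of_norm_eq` : a nonlinear irreducible character has trivial centre;
* `hom_eq_one`, `eq_one_of_degree_one` : no nontrivial linear characters;
* `degree_ne_two` : no irreducible character of degree two;
* `card_sylow_of_degree` : if `p` is a prime and a character degree of `S`, the Sylow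
  `p`-subgroups have order `p`.
-/

set_option autoImplicit false

namespace Cfsg.Agent.H681.SimpleChar

open Cfsg Cfsg.Agent.Characters.Core Cfsg.Agent.H681.DegBasic

variable {S : Type*} [Group S] [Finite S] [IsSimpleGroup S]

omit [Finite S] in
/-- The centre of a nonabelian simple group is trivial. -/
theorem eq_one_of_central (hna : ¬ ∀ a b : S, a * b = b * a) {g : S} (hg : ∀ y, g * y = y * g) :
    g = 1 := by
  rcases (inferInstance : (Subgroup.center S).Normal).eq_bot_or_eq_top with h | h
  · have : g ∈ Subgroup.center S := Subgroup.mem_center_iff.2 fun y => (hg y).symm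
    rwa [h, Subgroup.mem_bot] at this
  · exfalso
    apply hna
    intro a b
    have : b ∈ Subgroup.center S := h ▸ Subgroup.mem_top b
    exact Subgroup.mem_center_iff.1 this a

omit [Finite S] in
/-- Homomorphisms to commutative groups are trivial. -/
theorem hom_eq_one (hna : ¬ ∀ a b : S, a * b = b * a) {A : Type*} [CommGroup A] (f : S →* A) :
    f = 1 := by
  rcases (MonoidHom.normal_ker f).eq_bot_or_eq_top with h | h
  · exfalso
    apply hna
    intro a b
    apply (MonoidHom.ker_eq_bot_iff f).1 h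
    rw [map_mul, map_mul, mul_comm]
  · ext x
    have : x ∈ f.ker := h ▸ Subgroup.mem_top x
    exact this

omit [Finite S] in
/-- The only linear character is the principal one. -/
theorem eq_one_of_degree_one (hna : ¬ ∀ a b : S, a * b = b * a) {χ : S → ℂ}
    (hχ : IsIrrCharacter S χ) (h1 : χ 1 = 1) : χ = 1 := by
  obtain ⟨f, rfl⟩ := Cfsg.Agent.Characters.Linear.exists_hom_of_isIrrCharacter hχ h1
  rw [hom_eq_one hna f]
  funext g
  simp

/-- A nonlinear irreducible representation is faithful. -/
theorem ker_eq_bot {n : ℕ} (ρ : Representation ℂ S (Fin n → ℂ)) (hρ : ρ.IsIrreducible)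
    (h1 : ρ.character 1 ≠ 1) : MonoidHom.ker ρ = ⊥ := by
  rcases (MonoidHom.normal_ker ρ).eq_bot_or_eq_top with h | h
  · exact h
  · exfalso
    have := Fintype.ofFinite S
    have hall : ∀ g, ρ.character g = ρ.character 1 := by
      intro g
      have hg : g ∈ MonoidHom.ker ρ := h ▸ Subgroup.mem_top g
      have hg' : ρ g = 1 := hg
      show LinearMap.trace ℂ _ (ρ g) = LinearMap.trace ℂ _ (ρ 1)
      rw [hg', map_one ρ]
    have hirr : IsIrrCharacter S ρ.character := ⟨n, ρ, hρ, rfl⟩
    have h2 := classInner_irr_self hirr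
    have h3 : ρ.character = ρ.character 1 • (1 : S → ℂ) := by
      funext g
      rw [hall g]; simp
    rw [h3, classInner_smul_left, classInner_smul_right, classInner_irr_self isIrr_one, mul_one] at h2
    rw [Representation.char_one] at h2 h1
    simp only [Complex.conj_natCast] at h2
    have h4 : Module.finrank ℂ (Fin n → ℂ) * Module.finrank ℂ (Fin n → ℂ) = 1 := by
      exact_mod_cast h2
    exact h1 (by exact_mod_cast Nat.eq_one_of_mul_eq_one_right h4)

/-- The centre of a nonlinear irreducible character is trivial. -/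
theorem eq_one_of_norm_eq (hna : ¬ ∀ a b : S, a * b = b * a) {χ : S → ℂ}
    (hχ : IsIrrCharacter S χ) (h1 : χ 1 ≠ 1) {g : S} (hg : ‖χ g‖ = ‖χ 1‖) : g = 1 := by
  obtain ⟨n, ρ, hρ, rfl⟩ := hχ
  have hker := ker_eq_bot ρ hρ h1
  rw [Representation.char_one, Complex.norm_natCast] at hg
  obtain ⟨w, hw⟩ := (Cfsg.Agent.Characters.Values.norm_character_eq_iff ρ g).1 hg
  have hinj := (MonoidHom.ker_eq_bot_iff (f := ρ)).1 hker
  apply eq_one_of_central hna
  intro y
  apply hinj
  rw [map_mul, map_mul, hw]
  ext v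
  simp

/-- No irreducible character of degree two. -/
theorem degree_ne_two (hna : ¬ ∀ a b : S, a * b = b * a) : 2 ∉ charDegrees S := by
  intro h2
  have hdvd := dvd_card h2
  obtain ⟨χ, hχ, hχ2⟩ := mem_charDegrees.1 h2
  have := Fact.mk Nat.prime_two
  obtain ⟨t, ht⟩ := exists_prime_orderOf_dvd_card' (G := S) 2 hdvd
  obtain ⟨n, ρ, hρ, rfl⟩ := hχ
  have hn : n = 2 := by
    rw [Representation.char_one] at hχ2
    have : Module.finrank ℂ (Fin n → ℂ) = 2 := by exact_mod_cast hχ2
    simpa using this
  subst hn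
  have hdet : LinearMap.det (ρ t) = 1 := by
    have h3 := DFunLike.congr_fun (hom_eq_one hna (Cfsg.Agent.CharDeep.Twist.detHom ρ)) t
    have h4 := Cfsg.Agent.CharDeep.Twist.detHom_apply ρ t
    rw [← h4, h3]; rfl
  have hsq : ρ t * ρ t = 1 := by
    rw [← map_mul]
    have : t * t = 1 := by rw [← pow_two, ← ht]; exact pow_orderOf_eq_one t
    rw [this, map_one]
  let A := LinearMap.toMatrix' (ρ t)
  have hA2 : A * A = 1 := by
    have := congrArg LinearMap.toMatrix' hsq
    rw [Module.End.mul_eq_comp, LinearMap.toMatrix'_comp] at this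
    rw [show A * A = _ from this]
    exact LinearMap.toMatrix'_one
  have hAd : A.det = 1 := by
    rw [LinearMap.det_toMatrix']; exact hdet
  rw [Matrix.det_fin_two] at hAd
  have e00 := congrFun (congrFun hA2 0) 0
  have e01 := congrFun (congrFun hA2 0) 1
  have e10 := congrFun (congrFun hA2 1) 0
  have e11 := congrFun (congrFun hA2 1) 1
  simp only [Matrix.mul_apply, Fin.sum_univ_two, Matrix.one_apply_eq, Matrix.one_apply_ne,
    ne_eq, zero_ne_one, one_ne_zero, not_false_eq_true] at e00 e01 e10 e11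
  have htr : ρ.character t = A 0 0 + A 1 1 := by
    show LinearMap.trace ℂ _ (ρ t) = _
    rw [LinearMap.trace_eq_matrix_trace ℂ (Pi.basisFun ℂ (Fin 2)) (ρ t), Matrix.trace_fin_two]
    simp [A, LinearMap.toMatrix'_apply]
  have htr0 : (A 0 0 + A 1 1) ^ 2 = 4 := by
    linear_combination e00 + e11 + 2 * hAd
  have hnorm : ‖ρ.character t‖ = ‖ρ.character 1‖ := by
    rw [hχ2, htr]
    have h5 : ‖A 0 0 + A 1 1‖ ^ 2 = 4 := by rw [← norm_pow, htr0]; simp
    have h6 : (0 : ℝ) ≤ ‖A 0 0 + A 1 1‖ := norm_nonneg _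
    have h7 : ‖A 0 0 + A 1 1‖ = 2 := by nlinarith
    rw [h7]; simp
  have ht1 := eq_one_of_norm_eq hna ⟨2, ρ, hρ, rfl⟩ (by rw [hχ2]; norm_num) hnorm
  rw [ht1, orderOf_one] at ht
  norm_num at ht

/-- If the prime `p` is a character degree of the nonabelian finite simple group `S`, the Sylow
`p`-subgroups of `S` have order `p`. -/
theorem card_sylow_of_degree (hna : ¬ ∀ a b : S, a * b = b * a) {p : ℕ} (hp : p.Prime)
    (hpd : p ∈ charDegrees S) (P : Sylow p S) : Nat.card P = p := by
  classical
  have := Fact.mk hp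
  have := Fintype.ofFinite S
  have := Fintype.ofFinite (P : Subgroup S)
  have hdvd := dvd_card hpd
  have hP1 : (P : Subgroup S) ≠ ⊥ := P.ne_bot_of_dvd_card hdvd
  obtain ⟨χ, hχ, hχp⟩ := mem_charDegrees.1 hpd
  have hχ1 : χ 1 ≠ 1 := by
    rw [hχp]; exact_mod_cast hp.one_lt.ne'
  -- vanishing at central elements of `P`
  have hvan : ∀ z : (P : Subgroup S), z ∈ Subgroup.center (P : Subgroup S) → z ≠ 1 →
      χ z = 0 := by
    intro z hz hz1
    obtain ⟨n, ρ, hρ, rfl⟩ := hχ
    have hn : Module.finrank ℂ (Fin n → ℂ) = p := by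
      rw [Representation.char_one] at hχp
      exact_mod_cast hχp
    have hle : (P : Subgroup S) ≤ Subgroup.centralizer ({(z : S)} : Set S) := by
      intro y hy
      rw [Subgroup.mem_centralizer_singleton_iff]
      exact congrArg Subtype.val (Subgroup.mem_center_iff.1 hz ⟨y, hy⟩)
    have hcop : Nat.Coprime (Module.finrank ℂ (Fin n → ℂ))
        (Subgroup.centralizer ({(z : S)} : Set S)).index := by
      rw [hn, hp.coprime_iff_not_dvd]
      intro h
      exact P.not_dvd_index (h.trans (Subgroup.index_dvd_of_le hle))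
    rcases Cfsg.Agent.S0142.result ρ (z : S) hcop with h | h
    · exact h
    · exfalso
      apply hz1
      apply Subtype.ext
      refine eq_one_of_norm_eq hna ⟨n, ρ, hρ, rfl⟩ hχ1 ?_
      rw [h, Representation.char_one, Complex.norm_natCast]
  -- a nontrivial central element
  have hPp : IsPGroup p (P : Subgroup S) := P.isPGroup'
  have hPnt : Nontrivial (P : Subgroup S) := (Subgroup.nontrivial_iff_ne_bot _).2 hP1
  have hZnt : Nontrivial (Subgroup.center (P : Subgroup S)) := hPp.center_nontrivial
  obtain ⟨⟨z, hz⟩, hz1⟩ := exists_ne (1 : Subgroup.center (P : Subgroup S))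
  have hz1' : z ≠ 1 := fun h => hz1 (Subtype.ext h)
  have hz0 := hvan z hz hz1'
  -- the constituents of the restriction to `P` are linear
  have := finite_irr (G := (P : Subgroup S))
  have := Fintype.ofFinite (IrrCharacter (P : Subgroup S))
  have hres : IsCharacter (P : Subgroup S) (fun x : (P : Subgroup S) => χ x) :=
    Cfsg.Agent.Characters.Clifford.isCharacter_restrict _ (isIrr_isCharacter hχ)
  obtain ⟨m, hm⟩ := exists_nat_comb hres
  choose D hD hD' using fun φ : IrrCharacter (P : Subgroup S) => isIrr_apply_one φ.2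
  have hsum : ∑ φ : IrrCharacter (P : Subgroup S), m φ * D φ = p := by
    have h2 := congrFun hm 1
    rw [Finset.sum_apply] at h2
    have h3 : ((∑ φ : IrrCharacter (P : Subgroup S), m φ * D φ : ℕ) : ℂ) = p := by
      rw [← hχp]
      push_cast
      refine Eq.trans (Finset.sum_congr rfl fun φ _ => ?_) h2.symm
      rw [Pi.smul_apply, nsmul_eq_mul, hD']
    exact_mod_cast h3
  have hlin : ∀ φ : IrrCharacter (P : Subgroup S), m φ ≠ 0 → D φ = 1 := by
    intro φ hφ
    by_contra hne
    obtain ⟨a, ha⟩ := IsPGroup.iff_card.1 hPp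
    have hdvd2 : D φ ∣ p ^ a := by
      rw [← ha]
      exact dvd_card (mem_charDegrees.2 ⟨φ, φ.2, hD' φ⟩)
    obtain ⟨b, -, hb⟩ := (Nat.dvd_prime_pow hp).1 hdvd2
    have hb0 : b ≠ 0 := by
      rintro rfl
      exact hne (by rw [hb, pow_zero])
    have hge : p ≤ D φ := by
      rw [hb]
      calc p = p ^ 1 := (pow_one p).symm
        _ ≤ p ^ b := Nat.pow_le_pow_right hp.pos (by omega)
    have hle1 : m φ * D φ ≤ p := by
      rw [← hsum]
      exact Finset.single_le_sum (f := fun φ => m φ * D φ) (fun _ _ => Nat.zero_le _)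
        (Finset.mem_univ φ)
    have hle2 : D φ ≤ m φ * D φ := Nat.le_mul_of_pos_left _ (Nat.pos_of_ne_zero hφ)
    have hDp : D φ = p := le_antisymm (hle2.trans hle1) hge
    have hcon : classInner (fun x : (P : Subgroup S) => χ x) φ.1 ≠ 0 := by
      rw [hm, classInner_sum_nsmul_irr]
      exact_mod_cast hφ
    have heq := restrict_eq_of_degree (P : Subgroup S) (isIrr_isCharacter hχ) φ.2 hcon (by
      rw [hχp, hD', hDp])
    -- central elements act as scalars
    obtain ⟨k, σ, hσ, hσφ⟩ := φ.2
    have hscal : ∃ w : ℂ, σ z = w • LinearMap.id := by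
      refine Cfsg.Agent.CharDeep.SameChar.exists_smul_of_commute σ hσ (σ z) ?_
      intro g v
      have hcz := Subgroup.mem_center_iff.1 hz g
      have : σ z * σ g = σ g * σ z := by rw [← map_mul, ← map_mul, hcz]
      exact LinearMap.congr_fun this v
    have h5 := (Cfsg.Agent.Characters.Values.norm_character_eq_iff σ z).2 hscal
    have h6 : σ.character z = 0 := by
      rw [hσφ, ← heq]
      exact hz0
    have h7 : σ.character 1 = D φ := by rw [hσφ]; exact hD' φ
    rw [Representation.char_one] at h7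
    have h8 : Module.finrank ℂ (Fin k → ℂ) = D φ := by exact_mod_cast h7
    rw [h6, norm_zero, h8] at h5
    have h9 : D φ = 0 := by exact_mod_cast h5.symm
    exact (hD φ).ne' h9
  -- `P` is abelian
  have hcomm : ∀ x y : (P : Subgroup S), x * y = y * x := by
    intro x y
    have hval : ∀ φ : IrrCharacter (P : Subgroup S), m φ ≠ 0 →
        φ.1 (x * y * x⁻¹ * y⁻¹) = 1 := by
      intro φ hφ
      have h1 : φ.1 1 = 1 := by rw [hD', hlin φ hφ, Nat.cast_one]
      obtain ⟨f, hf⟩ := Cfsg.Agent.Characters.Linear.exists_hom_of_isIrrCharacter φ.2 h1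
      rw [hf]
      simp only [map_mul, map_inv]
      have : f x * f y * (f x)⁻¹ * (f y)⁻¹ = 1 := by
        rw [mul_comm (f x) (f y), mul_assoc (f y), mul_inv_cancel, mul_one, mul_inv_cancel]
      rw [this, Units.val_one]
    have hχval : χ ((x * y * x⁻¹ * y⁻¹ : (P : Subgroup S)) : S) = χ 1 := by
      have h2 := congrFun hm (x * y * x⁻¹ * y⁻¹)
      have h3 := congrFun hm 1
      rw [Finset.sum_apply] at h2 h3
      refine h2.trans (Eq.trans ?_ h3.symm)
      refine Finset.sum_congr rfl fun φ _ => ?_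
      by_cases hφ : m φ = 0
      · simp [hφ]
      · rw [Pi.smul_apply, Pi.smul_apply, hval φ hφ, hD' φ, hlin φ hφ, Nat.cast_one]
    have h4 := eq_one_of_norm_eq hna hχ hχ1 (g := ((x * y * x⁻¹ * y⁻¹ : (P : Subgroup S)) : S))
      (by rw [hχval])
    have h5 : x * y * x⁻¹ * y⁻¹ = 1 := Subtype.ext h4
    have h6 : x * y * x⁻¹ = y := mul_inv_eq_one.1 h5
    exact mul_inv_eq_iff_eq_mul.1 h6
  -- hence `χ` vanishes on `P \ {1}`
  obtain ⟨k, hk⟩ := Cfsg.Agent.S0189.result p P χ (isIrr_isCharacter hχ) (by
    intro g hg hg1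
    refine hvan ⟨g, hg⟩ ?_ (fun h => hg1 (congrArg Subtype.val h))
    rw [Subgroup.mem_center_iff]
    intro y
    exact hcomm _ _)
  rw [hχp] at hk
  have hk' : p = Nat.card P * k := by exact_mod_cast hk
  have h1 : Nat.card P ∣ p := ⟨k, hk'⟩
  rcases hp.eq_one_or_self_of_dvd _ h1 with h | h
  · exfalso
    exact hP1 (Subgroup.card_eq_one.1 h)
  · exact h

end Cfsg.Agent.H681.SimpleChar
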