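import Mathlib
import Cfsg.Agent.H681.DegBasic

/-!
# Degrees over a Frobenius quotient (Isaacs, Character theory, Theorem 12.4, `p'`-version)

`π : G →* Q` surjective, `V` an abelian normal `p`-subgroup of `Q` with `C_Q(v) ≤ V` for all
`1 ≠ v ∈ V`, `N` the preimage of `V` in `G`. If `ψ ∈ Irr(N)` has degree prime to `p` then
`[Q : V] ψ(1)` is a character degree of `G`.
-/

set_option autoImplicit false

namespace Cfsg.Agent.H681.FrobDeg

open Cfsg Cfsg.Agent.Characters.Core Cfsg.Agent.H681.DegBasic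

variable {Q : Type*} [Group Q] [Finite Q] (V : Subgroup Q) [hVn : V.Normal]

/-- The index of the kernel is smaller than its order. -/
theorem index_lt (hfpf : ∀ g, g ∉ V → ∀ v ∈ V, g * v = v * g → v = 1) (hV1 : V ≠ ⊥) :
    V.index < Nat.card V := by
  classical
  obtain ⟨⟨v0, hv0⟩, hv01⟩ := Subgroup.ne_bot_iff_exists_ne_one.1 hV1
  have hv01' : (v0 : Q) ≠ 1 := fun h => hv01 (Subtype.ext h)
  have hinj : Function.Injective (fun q : Q ⧸ V =>
      (⟨q.out * v0 * q.out⁻¹, hVn.conj_mem v0 hv0 _⟩ : V)) := by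
    intro q r hqr
    have h1 : q.out * v0 * q.out⁻¹ = r.out * v0 * r.out⁻¹ := congrArg Subtype.val hqr
    have h2 : (r.out⁻¹ * q.out) * v0 = v0 * (r.out⁻¹ * q.out) := by
      have h3 : r.out⁻¹ * (q.out * v0 * q.out⁻¹) * q.out = r.out⁻¹ * (r.out * v0 * r.out⁻¹) * q.out := by
        rw [h1]
      simpa [mul_assoc] using h3
    by_contra hne
    apply hv01'
    refine hfpf (r.out⁻¹ * q.out) (fun hmem => hne ?_) v0 hv0 h2
    rw [← QuotientGroup.out_eq' q, ← QuotientGroup.out_eq' r]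
    exact (QuotientGroup.eq.2 hmem).symm
  have hlt : Nat.card (Q ⧸ V) < Nat.card V := by
    have := Fintype.ofFinite (Q ⧸ V)
    have := Fintype.ofFinite V
    rw [Nat.card_eq_fintype_card, Nat.card_eq_fintype_card]
    refine Fintype.card_lt_of_injective_of_notMem _ hinj (b := 1) ?_
    rintro ⟨q, hq⟩
    have h1 : q.out * v0 * q.out⁻¹ = 1 := congrArg Subtype.val hq
    apply hv01'
    have h2 := congrArg (fun x => q.out⁻¹ * x * q.out) h1
    simpa [mul_assoc] using h2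
  exact hlt

/-- A linear character of the kernel invariant under an element outside is trivial. -/
theorem eq_one_of_invariant (hab : ∀ a ∈ V, ∀ b ∈ V, a * b = b * a)
    (hfpf : ∀ g, g ∉ V → ∀ v ∈ V, g * v = v * g → v = 1) {g : Q} (hg : g ∉ V) (l : V →* ℂˣ)
    (h : ∀ v : V, l ⟨g * v * g⁻¹, hVn.conj_mem v v.2 g⟩ = l v) : l = 1 := by
  classical
  have hinj : Function.Injective (fun v : V =>
      (⟨g * v * g⁻¹, hVn.conj_mem v v.2 g⟩ : V) * v⁻¹) := by
    intro v w hvw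
    have h1 : g * v * g⁻¹ * (v : Q)⁻¹ = g * w * g⁻¹ * (w : Q)⁻¹ := congrArg Subtype.val hvw
    have h2 : g * ((w : Q)⁻¹ * v) = ((w : Q)⁻¹ * v) * g := by
      have hc1 := hab (g * v * g⁻¹) (hVn.conj_mem v v.2 g) ((w : Q)⁻¹) (V.inv_mem w.2)
      have hc2 := hab (v : Q) v.2 ((w : Q)⁻¹) (V.inv_mem w.2)
      have h3 : (g * w * g⁻¹)⁻¹ * (g * v * g⁻¹) = (w : Q)⁻¹ * v := by
        have h4 : g * v * g⁻¹ = g * w * g⁻¹ * (w : Q)⁻¹ * v := by
          rw [← h1]; group
        rw [h4]; group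
      have h5 : (g * w * g⁻¹)⁻¹ * (g * v * g⁻¹) = g * ((w : Q)⁻¹ * v) * g⁻¹ := by group
      rw [h5] at h3
      exact mul_inv_eq_iff_eq_mul.1 h3
    have h6 := hfpf g hg ((w : Q)⁻¹ * v) (V.mul_mem (V.inv_mem w.2) v.2) h2
    exact Subtype.ext (inv_mul_eq_one.1 h6).symm
  have hsurj := Finite.surjective_of_injective hinj
  ext v
  obtain ⟨w, rfl⟩ := hsurj v
  simp only [map_mul, map_inv, h, mul_inv_cancel]
  simp

/-- **Isaacs, Theorem 12.4** (`p'`-version). -/
theorem index_mul_mem {G : Type*} [Group G] [Finite G] (π : G →* Q)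
    (hπ : Function.Surjective π) (hab : ∀ a ∈ V, ∀ b ∈ V, a * b = b * a)
    (hfpf : ∀ g, g ∉ V → ∀ v ∈ V, g * v = v * g → v = 1) (hV1 : V ≠ ⊥) {p m : ℕ}
    (hVp : ∀ v ∈ V, v ^ p ^ m = 1) (N : Subgroup G) [hNn : N.Normal] (hN : N = V.comap π)
    {ψ : N → ℂ} (hψ : IsIrrCharacter N ψ) {d : ℕ} (hd : ψ 1 = d) (hpd : d.Coprime p) :
    V.index * d ∈ charDegrees G := by
  classical
  have hmemN : ∀ g, g ∈ N ↔ π g ∈ V := fun g => by rw [hN]; rfl
  let j : N →* V := (π.comp N.subtype).codRestrict V (fun n => (hmemN n).1 n.2)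
  have hj : ∀ n : N, (j n : Q) = π n := fun n => rfl
  have hjs : Function.Surjective j := by
    rintro ⟨v, hv⟩
    obtain ⟨g, rfl⟩ := hπ v
    exact ⟨⟨g, (hmemN g).2 hv⟩, rfl⟩
  let θ : (V →* ℂˣ) → N → ℂ := fun l n => ψ n * (l (j n) : ℂ)
  have hθirr : ∀ l, IsIrrCharacter N (θ l) := by
    intro l
    obtain ⟨k, ρ, hρ, hρψ⟩ := hψ
    refine ⟨k, Cfsg.Agent.CharDeep.Twist.twist (l.comp j) ρ,
      Cfsg.Agent.CharDeep.Twist.twist_irreducible _ _ hρ, ?_⟩
    funext n
    rw [Cfsg.Agent.CharDeep.Twist.twist_character, hρψ, mul_comm]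
    rfl
  have hθ1 : ∀ l, θ l 1 = d := by
    intro l
    simp [θ, hd]
  -- it suffices to find `l` with inertia group `N`
  suffices hex : ∃ l : V →* ℂˣ, ∀ g : G,
      (∀ n : N, θ l ⟨g * n * g⁻¹, hNn.conj_mem n n.2 g⟩ = θ l n) → g ∈ N by
    obtain ⟨l, hl⟩ := hex
    have h1 := induced_degree N (hθirr l) (hθ1 l) hl
    have h2 : N.index = V.index := by rw [hN]; exact Subgroup.index_comap_of_surjective V hπ
    rwa [h2] at h1
  by_contra hcon
  push Not at hcon
  choose g hg hgN using hcon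
  have hψ0 : ∀ n : N, (fun n : N => ψ n) n = ψ n := fun n => rfl
  -- the map `l ↦ π (g l)` modulo `V` is injective
  have hinj : Function.Injective (fun l : V →* ℂˣ => (π (g l) : Q ⧸ V)) := by
    intro l l' hll
    have hmem : (π (g l))⁻¹ * π (g l') ∈ V := QuotientGroup.eq.1 hll
    -- write `g l' = g l * n`
    obtain ⟨x, hx⟩ : ∃ x : N, g l' = g l * x :=
      ⟨⟨(g l)⁻¹ * g l', by
        rw [hmemN, map_mul, map_inv]; exact hmem⟩, by simp⟩
    -- both twists are invariant under `g l`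
    have hcl := isIrr_isClassFunction (hθirr l')
    have hg' : ∀ n : N, θ l' ⟨g l * n * (g l)⁻¹, hNn.conj_mem n n.2 (g l)⟩ = θ l' n := by
      intro n
      have h1 := hg l' (x⁻¹ * n * x)
      have h2 : (⟨g l' * ((x⁻¹ * n * x : N) : G) * (g l')⁻¹,
          hNn.conj_mem _ (x⁻¹ * n * x : N).2 (g l')⟩ : N) =
          ⟨g l * n * (g l)⁻¹, hNn.conj_mem n n.2 (g l)⟩ := by
        apply Subtype.ext
        simp only [Subgroup.coe_mul, Subgroup.coe_inv]
        rw [hx]
        group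
      rw [h2] at h1
      rw [h1]
      have h3 := hcl n x⁻¹
      rwa [inv_inv] at h3
    -- the ratio
    have hratio : ∀ n : N, ψ n * (((l * l'⁻¹) (j n) * ((l * l'⁻¹)
        (j ⟨g l * n * (g l)⁻¹, hNn.conj_mem n n.2 (g l)⟩))⁻¹ : ℂˣ) : ℂ) = ψ n := by
      intro n
      set n' : N := ⟨g l * n * (g l)⁻¹, hNn.conj_mem n n.2 (g l)⟩ with hn'
      have h1 : ψ n' * (l (j n') : ℂ) = ψ n * (l (j n) : ℂ) := hg l n
      have h2 : ψ n' * (l' (j n') : ℂ) = ψ n * (l' (j n) : ℂ) := hg' n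
      have ha := Units.ne_zero (l (j n'))
      have hb := Units.ne_zero (l' (j n'))
      have hc := Units.ne_zero (l (j n))
      have hd' := Units.ne_zero (l' (j n))
      have h3 : ψ n * ((l (j n) : ℂ) * (l' (j n') : ℂ)) = ψ n * ((l' (j n) : ℂ) * (l (j n') : ℂ)) := by
        linear_combination (-(l' (j n') : ℂ)) * h1 + (l (j n') : ℂ) * h2
      push_cast [MonoidHom.mul_apply, MonoidHom.inv_apply, Units.val_mul]
      have h4 : ψ n * ((l (j n) : ℂ) * ((l' (j n) : ℂ))⁻¹ * ((l (j n') : ℂ) * ((l' (j n') : ℂ))⁻¹)⁻¹) =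
          (ψ n * ((l (j n) : ℂ) * (l' (j n') : ℂ))) * ((l' (j n) : ℂ) * (l (j n') : ℂ))⁻¹ := by
        field_simp
      rw [h4, h3]
      field_simp
    let μ : V →* ℂˣ := l * l'⁻¹
    let c : N →* N := (MulAut.conjNormal (g l) : MulAut N)
    have hc : ∀ n : N, c n = ⟨g l * n * (g l)⁻¹, hNn.conj_mem n n.2 (g l)⟩ := fun n => rfl
    let L : N →* ℂˣ := (μ.comp j) * (μ.comp (j.comp c))⁻¹
    have hL : L = 1 := by
      refine twist_eq_one hψ hd hpd (m := m) L ?_ ?_
      · intro n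
        have h1 : ∀ v : V, μ v ^ p ^ m = 1 := by
          intro v
          rw [← map_pow]
          have : v ^ p ^ m = 1 := Subtype.ext (hVp v v.2)
          rw [this, map_one]
        show (μ (j n) * (μ (j (c n)))⁻¹) ^ p ^ m = 1
        rw [mul_pow, inv_pow, h1, h1, inv_one, mul_one]
      · intro n
        exact hratio n
    have hμ : μ = 1 := by
      refine eq_one_of_invariant V hab hfpf (g := π (g l)) (fun h => hgN l ((hmemN _).2 h)) μ ?_
      intro v
      obtain ⟨n, rfl⟩ := hjs v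
      have h1 := DFunLike.congr_fun hL n
      have h2 : μ (j n) * (μ (j (c n)))⁻¹ = 1 := h1
      have h3 : μ (j n) = μ (j (c n)) := mul_inv_eq_one.1 h2
      rw [h3]
      congr 1
      apply Subtype.ext
      simp [hj, hc]
    exact mul_inv_eq_one.1 hμ
  have hlt := index_lt V hfpf hV1
  have hcardV : Nat.card (V →* ℂˣ) = Nat.card V := by
    rw [Cfsg.Agent.Characters.Linear.card_hom_eq_index_commutator]
    have hcomm : commutator V = ⊥ := by
      rw [commutator_eq_bot_iff_center_eq_top, Subgroup.eq_top_iff']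
      intro a
      rw [Subgroup.mem_center_iff]
      intro b
      exact Subtype.ext (hab b b.2 a a.2)
    rw [hcomm, Subgroup.index_bot]
  have hle := Nat.card_le_card_of_injective _ hinj
  rw [hcardV] at hle
  exact absurd hlt (not_lt.2 hle)

end Cfsg.Agent.H681.FrobDeg
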