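import Mathlib

/-!
# Solvable groups all of whose proper quotients are abelian (Isaacs, Lemma 12.3)

`Q` a finite solvable non-abelian group in which the commutator subgroup is contained in every
nontrivial normal subgroup. Then for some prime `p` the commutator subgroup `V` is abelian of
exponent `p`, and either `Q` is a `p`-group, or `C_Q(v) = V` for every `1 ≠ v ∈ V`.
-/

set_option autoImplicit false

namespace Cfsg.Agent.H681.MinNonab

variable {Q : Type*} [Group Q]

/-- A maximal normal subgroup not containing the commutator subgroup. -/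
theorem exists_quotient {G : Type*} [Group G] [Finite G] (hG : commutator G ≠ ⊥) :
    ∃ K : Subgroup G, ∃ _ : K.Normal, commutator (G ⧸ K) ≠ ⊥ ∧
      ∀ M : Subgroup (G ⧸ K), M.Normal → M ≠ ⊥ → commutator (G ⧸ K) ≤ M := by
  classical
  let S : Set (Subgroup G) := {K | K.Normal ∧ ¬ commutator G ≤ K}
  have hS : S.Nonempty := ⟨⊥, inferInstance, fun h => hG (le_bot_iff.1 h)⟩
  obtain ⟨K, hK⟩ := (Set.toFinite S).exists_maximal hS
  obtain ⟨⟨hKn, hKc⟩, hmax⟩ := hK
  have hmap : commutator (G ⧸ K) = (commutator G).map (QuotientGroup.mk' K) := by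
    rw [commutator_def, commutator_def, Subgroup.map_commutator,
      Subgroup.map_top_of_surjective _ (QuotientGroup.mk'_surjective K)]
  refine ⟨K, hKn, ?_, ?_⟩
  · intro h
    apply hKc
    rw [hmap, Subgroup.map_eq_bot_iff, QuotientGroup.ker_mk'] at h
    exact h
  · intro M hM hM1
    have hcomap : (M.comap (QuotientGroup.mk' K)).Normal := hM.comap _
    have hle : K ≤ M.comap (QuotientGroup.mk' K) := by
      intro k hk
      rw [Subgroup.mem_comap]
      have : QuotientGroup.mk' K k = 1 := (QuotientGroup.eq_one_iff k).2 hk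
      rw [this]; exact M.one_mem
    by_contra hcon
    have hmem : M.comap (QuotientGroup.mk' K) ∈ S := by
      refine ⟨hcomap, fun h => hcon ?_⟩
      rw [hmap]
      exact Subgroup.map_le_iff_le_comap.2 h
    have hge := hmax hmem hle
    apply hM1
    rw [eq_bot_iff]
    intro q hq
    obtain ⟨g, rfl⟩ := QuotientGroup.mk'_surjective K q
    have : g ∈ K := hge (Subgroup.mem_comap.2 hq)
    exact Subgroup.mem_bot.2 ((QuotientGroup.eq_one_iff g).2 this)

variable [Finite Q]

/-- The commutator subgroup is abelian. -/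
theorem comm_of_mem [Group.IsSolvable Q] (h1 : commutator Q ≠ ⊥)
    (hmin : ∀ M : Subgroup Q, M.Normal → M ≠ ⊥ → commutator Q ≤ M) :
    ∀ a ∈ commutator Q, ∀ b ∈ commutator Q, a * b = b * a := by
  by_contra hcon
  have hne : ⁅commutator Q, commutator Q⁆ ≠ ⊥ := by
    intro h
    apply hcon
    intro a ha b hb
    have := Subgroup.commutator_eq_bot_iff_le_centralizer.1 h ha
    rw [Subgroup.mem_centralizer_iff] at this
    exact (this b hb).symm
  have hle := hmin ⁅commutator Q, commutator Q⁆ inferInstance hne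
  have hstab : ∀ n, 1 ≤ n → commutator Q ≤ derivedSeries Q n := by
    intro n hn
    induction n with
    | zero => omega
    | succ n ih =>
      rcases Nat.eq_zero_or_pos n with rfl | hn'
      · exact le_of_eq (derivedSeries_one Q).symm
      · rw [derivedSeries_succ]
        exact hle.trans (Subgroup.commutator_mono (ih hn') (ih hn'))
  obtain ⟨n, hn⟩ := (inferInstance : Group.IsSolvable Q).solvable
  have h2 := hstab (n + 1) (by omega)
  rw [derivedSeries_succ, hn] at h2
  apply h1
  rw [eq_bot_iff]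
  refine h2.trans ?_
  simp

/-- The commutator subgroup has prime exponent. -/
theorem exists_prime (h1 : commutator Q ≠ ⊥)
    (hab : ∀ a ∈ commutator Q, ∀ b ∈ commutator Q, a * b = b * a)
    (hmin : ∀ M : Subgroup Q, M.Normal → M ≠ ⊥ → commutator Q ≤ M) :
    ∃ p : ℕ, p.Prime ∧ ∀ v ∈ commutator Q, v ^ p = 1 := by
  have hcard : Nat.card (commutator Q) ≠ 1 := by
    intro h
    exact h1 (Subgroup.card_eq_one.1 h)
  obtain ⟨p, hp, hpd⟩ := Nat.exists_prime_and_dvd hcard
  refine ⟨p, hp, ?_⟩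
  have := Fact.mk hp
  let M : Subgroup Q :=
    { carrier := {v | v ∈ commutator Q ∧ v ^ p = 1}
      mul_mem' := by
        rintro a b ⟨ha, ha'⟩ ⟨hb, hb'⟩
        refine ⟨mul_mem ha hb, ?_⟩
        have hc : Commute a b := hab a ha b hb
        rw [hc.mul_pow, ha', hb', one_mul]
      one_mem' := ⟨one_mem _, one_pow _⟩
      inv_mem' := by
        rintro a ⟨ha, ha'⟩
        exact ⟨inv_mem ha, by rw [inv_pow, ha', inv_one]⟩ }
  have hMn : M.Normal := by
    constructor
    rintro n ⟨hn, hn'⟩ g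
    refine ⟨(inferInstance : (commutator Q).Normal).conj_mem n hn g, ?_⟩
    rw [conj_pow, hn', mul_one, mul_inv_cancel]
  have hM1 : M ≠ ⊥ := by
    obtain ⟨x, hx⟩ := exists_prime_orderOf_dvd_card' (G := commutator Q) p hpd
    intro h
    have hxM : (x : Q) ∈ M := by
      refine ⟨x.2, ?_⟩
      have h2 : x ^ p = 1 := by rw [← hx]; exact pow_orderOf_eq_one x
      exact congrArg Subtype.val h2
    rw [h, Subgroup.mem_bot] at hxM
    have : x = 1 := Subtype.ext hxM
    rw [this, orderOf_one] at hx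
    exact hp.one_lt.ne hx
  intro v hv
  exact (hmin M hMn hM1 hv).2

/-- Central case: `Q` is a `p`-group. -/
theorem isPGroup_of_center (h1 : commutator Q ≠ ⊥) {p : ℕ} (hp : p.Prime)
    (hexp : ∀ v ∈ commutator Q, v ^ p = 1)
    (hmin : ∀ M : Subgroup Q, M.Normal → M ≠ ⊥ → commutator Q ≤ M)
    (hZ : Subgroup.center Q ≠ ⊥) : IsPGroup p Q := by
  classical
  have := Fact.mk hp
  have hVZ : commutator Q ≤ Subgroup.center Q := hmin _ inferInstance hZ
  have hnil : Group.IsNilpotent Q := by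
    apply Group.of_quotient_center_nilpotent
    have hcomm : ∀ a b : Q ⧸ Subgroup.center Q, a * b = b * a := by
      intro a b
      obtain ⟨a, rfl⟩ := QuotientGroup.mk'_surjective _ a
      obtain ⟨b, rfl⟩ := QuotientGroup.mk'_surjective _ b
      rw [← map_mul, ← map_mul]
      refine (QuotientGroup.eq.2 (hVZ ?_))
      have h := Subgroup.commutator_mem_commutator (Subgroup.mem_top b⁻¹) (Subgroup.mem_top a⁻¹)
      rw [commutatorElement_def] at h
      have : (a * b)⁻¹ * (b * a) = b⁻¹ * a⁻¹ * b⁻¹⁻¹ * a⁻¹⁻¹ := by group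
      rw [this]
      exact h
    exact @CommGroup.isNilpotent _ { (inferInstance : Group (Q ⧸ Subgroup.center Q)) with
      mul_comm := hcomm }
  have hsyl : ∀ (q : ℕ) (_ : Fact q.Prime) (P : Sylow q Q), (P : Subgroup Q).Normal :=
    ((Group.isNilpotent_of_finite_tfae (G := Q)).out 0 3).1 hnil
  -- every prime divisor of `|Q|` is `p`
  have hprime : ∀ q : ℕ, q.Prime → q ∣ Nat.card Q → q = p := by
    intro q hq hqd
    have := Fact.mk hq
    let P : Sylow q Q := default
    have hP1 : (P : Subgroup Q) ≠ ⊥ := P.ne_bot_of_dvd_card hqd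
    have hle := hmin P (hsyl q ⟨hq⟩ P) hP1
    obtain ⟨⟨v, hv⟩, hv1⟩ := Subgroup.ne_bot_iff_exists_ne_one.1 h1
    have hv1' : v ≠ 1 := fun h => hv1 (Subtype.ext h)
    obtain ⟨k, hk⟩ := P.isPGroup' ⟨v, hle hv⟩
    have hk' : v ^ q ^ k = 1 := congrArg Subtype.val hk
    have h2 : orderOf v ∣ p := orderOf_dvd_of_pow_eq_one (hexp v hv)
    have h3 : orderOf v ∣ q ^ k := orderOf_dvd_of_pow_eq_one hk'
    have h4 : orderOf v ≠ 1 := fun h => hv1' (orderOf_eq_one_iff.1 h)
    have h5 : orderOf v = p := (hp.eq_one_or_self_of_dvd _ h2).resolve_left h4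
    rw [h5] at h3
    exact ((Nat.prime_dvd_prime_iff_eq hp hq).1 (hp.dvd_of_dvd_pow h3)).symm
  exact IsPGroup.of_card (Nat.eq_prime_pow_of_unique_prime_dvd Nat.card_pos.ne' fun {q} hq hqd =>
    hprime q hq hqd)

/-- Centreless case: the commutator subgroup contains the centralizers of its nonidentity
elements. -/
theorem fixedPointFree (hab : ∀ a ∈ commutator Q, ∀ b ∈ commutator Q, a * b = b * a)
    (hmin : ∀ M : Subgroup Q, M.Normal → M ≠ ⊥ → commutator Q ≤ M)
    (h1 : commutator Q ≠ ⊥) (hZ : Subgroup.center Q = ⊥) :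
    ∀ g, g ∉ commutator Q → ∀ v ∈ commutator Q, g * v = v * g → v = 1 := by
  classical
  set V := commutator Q with hV
  have hVn : V.Normal := inferInstance
  have hconj : ∀ x g : Q, ∃ w ∈ V, x * g * x⁻¹ = g * w := by
    intro x g
    refine ⟨g⁻¹ * (x * g * x⁻¹), ?_, by group⟩
    have h := Subgroup.commutator_mem_commutator (Subgroup.mem_top g⁻¹) (Subgroup.mem_top x)
    rw [commutatorElement_def] at h
    have : g⁻¹ * (x * g * x⁻¹) = g⁻¹ * x * g⁻¹⁻¹ * x⁻¹ := by group
    rw [this]
    exact h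
  -- the fixed points of `g` in a normal subgroup centralizing `V` form a normal subgroup
  have hnorm : ∀ (C : Subgroup Q), C.Normal → (∀ c ∈ C, ∀ v ∈ V, c * v = v * c) → ∀ g : Q,
      (C ⊓ Subgroup.centralizer {g}).Normal := by
    intro C hC hCV g
    constructor
    rintro c ⟨hc, hcg⟩ x
    have hcg' : c * g = g * c := (Subgroup.mem_centralizer_singleton_iff.1 hcg)
    refine ⟨hC.conj_mem c hc x, Subgroup.mem_centralizer_singleton_iff.2 ?_⟩
    obtain ⟨w, hw, hwx⟩ := hconj x g
    have h2 : (x * c * x⁻¹) * (x * g * x⁻¹) = (x * g * x⁻¹) * (x * c * x⁻¹) := by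
      have : x * (c * g) * x⁻¹ = x * (g * c) * x⁻¹ := by rw [hcg']
      simpa [mul_assoc] using this
    rw [hwx] at h2
    have h3 : (x * c * x⁻¹) * w = w * (x * c * x⁻¹) := hCV _ (hC.conj_mem c hc x) w hw
    have h4 : (x * c * x⁻¹) * g * w = g * (x * c * x⁻¹) * w := by
      calc (x * c * x⁻¹) * g * w = (x * c * x⁻¹) * (g * w) := by rw [mul_assoc]
        _ = g * w * (x * c * x⁻¹) := h2
        _ = g * (w * (x * c * x⁻¹)) := by rw [mul_assoc]
        _ = g * ((x * c * x⁻¹) * w) := by rw [h3]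
        _ = g * (x * c * x⁻¹) * w := (mul_assoc _ _ _).symm
    exact mul_right_cancel h4
  set C := Subgroup.centralizer (V : Set Q) with hCdef
  have hCn : C.Normal := Subgroup.normal_centralizer
  have hCV : ∀ c ∈ C, ∀ v ∈ V, c * v = v * c := by
    intro c hc v hv
    exact (Subgroup.mem_centralizer_iff.1 hc v hv).symm
  have hVC : V ≤ C := by
    intro a ha
    rw [Subgroup.mem_centralizer_iff]
    intro b hb
    exact hab b hb a ha
  -- an element outside `C` has no fixed points in `V`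
  have hfix : ∀ g, g ∉ C → ∀ v ∈ V, g * v = v * g → v = 1 := by
    intro g hg v hv hgv
    have hn := hnorm V hVn hab g
    by_contra hv1
    have hne : V ⊓ Subgroup.centralizer {g} ≠ ⊥ := by
      intro h
      have : v ∈ V ⊓ Subgroup.centralizer {g} :=
        ⟨hv, Subgroup.mem_centralizer_singleton_iff.2 hgv.symm⟩
      rw [h, Subgroup.mem_bot] at this
      exact hv1 this
    have hle := hmin _ hn hne
    apply hg
    rw [Subgroup.mem_centralizer_iff]
    intro w hw
    exact Subgroup.mem_centralizer_singleton_iff.1 (hle hw).2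
  -- there is an element outside `C`
  obtain ⟨g0, hg0⟩ : ∃ g0, g0 ∉ C := by
    by_contra hcon
    push Not at hcon
    apply h1
    rw [eq_bot_iff, ← hZ]
    intro v hv
    rw [Subgroup.mem_center_iff]
    intro g
    exact hCV g (hcon g) v hv
  -- `C = V`
  have hCleV : C ≤ V := by
    intro c hc
    have hinj : Function.Injective (fun v : V =>
        (⟨v * g0 * (v : Q)⁻¹ * g0⁻¹, by
          have := V.mul_mem v.2 (hVn.conj_mem _ (V.inv_mem v.2) g0)
          simpa [mul_assoc] using this⟩ : V)) := by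
      intro v w hvw
      have h2 : (v : Q) * g0 * (v : Q)⁻¹ * g0⁻¹ = w * g0 * (w : Q)⁻¹ * g0⁻¹ :=
        congrArg Subtype.val hvw
      have h3 : (v : Q) * g0 * (v : Q)⁻¹ = w * g0 * (w : Q)⁻¹ := mul_right_cancel h2
      have h4 : g0 * ((w : Q)⁻¹ * v) = ((w : Q)⁻¹ * v) * g0 := by
        have h5 : (w : Q)⁻¹ * ((v : Q) * g0 * (v : Q)⁻¹) * v = (w : Q)⁻¹ * (w * g0 * (w : Q)⁻¹) * v := by
          rw [h3]
        have h6 : (w : Q)⁻¹ * ((v : Q) * g0 * (v : Q)⁻¹) * v = (w : Q)⁻¹ * v * g0 := by group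
        have h7 : (w : Q)⁻¹ * (w * g0 * (w : Q)⁻¹) * v = g0 * ((w : Q)⁻¹ * v) := by group
        rw [h6, h7] at h5
        exact h5.symm
      have h8 := hfix g0 hg0 _ (V.mul_mem (V.inv_mem w.2) v.2) h4
      exact Subtype.ext (inv_mul_eq_one.1 h8).symm
    have hsurj := Finite.surjective_of_injective hinj
    have hcV : c * g0 * c⁻¹ * g0⁻¹ ∈ V := by
      have := Subgroup.commutator_mem_commutator (Subgroup.mem_top c) (Subgroup.mem_top g0)
      rw [commutatorElement_def] at this
      exact this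
    obtain ⟨v, hv⟩ := hsurj ⟨c * g0 * c⁻¹ * g0⁻¹, hcV⟩
    have h2 : (v : Q) * g0 * (v : Q)⁻¹ * g0⁻¹ = c * g0 * c⁻¹ * g0⁻¹ := congrArg Subtype.val hv
    have h3 : (v : Q) * g0 * (v : Q)⁻¹ = c * g0 * c⁻¹ := mul_right_cancel h2
    have h4 : ((v : Q)⁻¹ * c) * g0 = g0 * ((v : Q)⁻¹ * c) := by
      have h5 : (v : Q)⁻¹ * ((v : Q) * g0 * (v : Q)⁻¹) * c = (v : Q)⁻¹ * (c * g0 * c⁻¹) * c := by
        rw [h3]
      have h6 : (v : Q)⁻¹ * ((v : Q) * g0 * (v : Q)⁻¹) * c = g0 * ((v : Q)⁻¹ * c) := by group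
      have h7 : (v : Q)⁻¹ * (c * g0 * c⁻¹) * c = (v : Q)⁻¹ * c * g0 := by group
      rw [h6, h7] at h5
      exact h5.symm
    have hD := hnorm C hCn hCV g0
    have hmem : (v : Q)⁻¹ * c ∈ C ⊓ Subgroup.centralizer {g0} :=
      ⟨C.mul_mem (C.inv_mem (hVC v.2)) hc, Subgroup.mem_centralizer_singleton_iff.2 h4⟩
    have hD1 : C ⊓ Subgroup.centralizer {g0} = ⊥ := by
      by_contra hne
      have hle := hmin _ hD hne
      apply hg0
      rw [Subgroup.mem_centralizer_iff]
      intro w hw
      exact Subgroup.mem_centralizer_singleton_iff.1 (hle hw).2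
    rw [hD1, Subgroup.mem_bot] at hmem
    rw [← inv_mul_eq_one.1 hmem]
    exact v.2
  intro g hg v hv hgv
  exact hfix g (fun h => hg (hCleV h)) v hv hgv

end Cfsg.Agent.H681.MinNonab
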