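import Mathlib
import Cfsg.Agent.H681.DegBasic
import Cfsg.Agent.H681.FrobDeg
import Cfsg.Agent.H681.MinNonab
import Cfsg.Agent.S0187
import Cfsg.Agent.Transfer.PGroupNormal

/-!
# A dichotomy for character degrees of finite solvable groups (Isaacs, 12.3 and 12.4)

`exists_prime_degree`: for a finite solvable nonabelian group `G` there are a prime `p` and an
integer `f > 1` such that every character degree `n` of `G` has a divisor `d` with `n ∣ f d` and
either `p ∣ d` or `f d` is a character degree of `G`.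
-/

set_option autoImplicit false

namespace Cfsg.Agent.H681.DegStruct

open Cfsg Cfsg.Agent.Characters.Core Cfsg.Agent.H681.DegBasic

/-- The dichotomy, relative to a quotient which is minimal nonabelian: two cases. -/
theorem cases {G : Type*} [Group G] [Finite G] [Group.IsSolvable G] (hG : commutator G ≠ ⊥) :
    ∃ (p : ℕ) (f : ℕ), p.Prime ∧ 1 < f ∧
      (((∃ b, f = p ^ b) ∧ ∀ n ∈ charDegrees G, p ∣ n ∨ f * n ∈ charDegrees G) ∨
        (f.Coprime p ∧ ∀ n ∈ charDegrees G, ∃ d, d ∣ n ∧ n / d ∣ f ∧
          (p ∣ d ∨ f * d ∈ charDegrees G))) := by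
  classical
  have := Fintype.ofFinite G
  obtain ⟨K, hKn, h1, hmin⟩ := MinNonab.exists_quotient hG
  have hab := MinNonab.comm_of_mem h1 hmin
  obtain ⟨p, hp, hexp⟩ := MinNonab.exists_prime h1 hab hmin
  have hpf := Fact.mk hp
  have hπ := QuotientGroup.mk'_surjective K
  by_cases hZ : Subgroup.center (G ⧸ K) = ⊥
  · -- Frobenius case
    have hfpf := MinNonab.fixedPointFree hab hmin h1 hZ
    have hidx : 1 < (commutator (G ⧸ K)).index := by
      have h0 : (commutator (G ⧸ K)).index ≠ 0 := Subgroup.index_ne_zero_of_finite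
      have h2 : (commutator (G ⧸ K)).index ≠ 1 := by
        intro h
        rw [Subgroup.index_eq_one] at h
        apply h1
        rw [eq_bot_iff, ← hZ]
        intro v hv
        rw [Subgroup.mem_center_iff]
        intro g
        exact hab g (h ▸ Subgroup.mem_top g) v hv
      omega
    -- `f` is coprime to `p`
    have hcop : (commutator (G ⧸ K)).index.Coprime p := by
      rw [Nat.coprime_comm, hp.coprime_iff_not_dvd]
      intro hdvd
      -- a `p`-element outside `V` acts with fixed points on `V`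
      have hVp : IsPGroup p (commutator (G ⧸ K)) := by
        intro v
        exact ⟨1, Subtype.ext (by simpa using hexp v v.2)⟩
      obtain ⟨P, hP⟩ := hVp.exists_le_sylow
      -- `P ≠ V`
      have hne : ∃ x ∈ (P : Subgroup (G ⧸ K)), x ∉ commutator (G ⧸ K) := by
        by_contra hcon
        push Not at hcon
        have heq : (P : Subgroup (G ⧸ K)) = commutator (G ⧸ K) := le_antisymm hcon hP
        apply P.not_dvd_index
        rw [heq]
        exact hdvd
      obtain ⟨x, hxP, hxV⟩ := hne
      -- `Z(P) ∩ V ≠ 1`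
      have hPp : IsPGroup p (P : Subgroup (G ⧸ K)) := P.isPGroup'
      let V' : Subgroup (P : Subgroup (G ⧸ K)) := (commutator (G ⧸ K)).subgroupOf P
      have hV'n : V'.Normal := inferInstance
      have hV'1 : V' ≠ ⊥ := by
        intro h
        apply h1
        rw [eq_bot_iff]
        intro v hv
        have : (⟨v, hP hv⟩ : (P : Subgroup (G ⧸ K))) ∈ V' := Subgroup.mem_subgroupOf.2 hv
        rw [h, Subgroup.mem_bot] at this
        exact Subgroup.mem_bot.2 (congrArg Subtype.val this)
      obtain ⟨z, hz1, hz2, hz⟩ :=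
        Cfsg.Agent.Transfer.PGroupNormal.exists_mem_inf_center_orderOf hPp V' hV'1
      have hz3 : (z : G ⧸ K) ∈ commutator (G ⧸ K) := Subgroup.mem_subgroupOf.1 hz1
      have hz4 := Subgroup.mem_center_iff.1 hz2 ⟨x, hxP⟩
      have hz5 : x * (z : G ⧸ K) = z * x := congrArg Subtype.val hz4
      have hz6 := hfpf x hxV z hz3 hz5
      have hz7 : z = 1 := Subtype.ext hz6
      rw [hz7, orderOf_one] at hz
      exact hp.one_lt.ne hz
    refine ⟨p, (commutator (G ⧸ K)).index, hp, hidx, Or.inr ⟨hcop, ?_⟩⟩
    intro n hn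
    obtain ⟨χ, hχ, hχn⟩ := mem_charDegrees.1 hn
    set N : Subgroup G := (commutator (G ⧸ K)).comap (QuotientGroup.mk' K) with hN
    have hNn : N.Normal := (inferInstance : (commutator (G ⧸ K)).Normal).comap _
    have := Fintype.ofFinite N
    obtain ⟨ψ, d, hψ, hψd, -, hd1, hd2⟩ := exists_constituent N hχ hχn
    have hNi : N.index = (commutator (G ⧸ K)).index := by
      rw [hN]; exact Subgroup.index_comap_of_surjective _ hπ
    rw [hNi] at hd2
    refine ⟨d, hd1, hd2, ?_⟩
    by_cases hpd : p ∣ d
    · exact Or.inl hpd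
    · right
      refine FrobDeg.index_mul_mem (commutator (G ⧸ K)) (QuotientGroup.mk' K) hπ hab hfpf h1
        (p := p) (m := 1) (by simpa using hexp) N hN hψ hψd
        (((Nat.Prime.coprime_iff_not_dvd hp).2 hpd).symm)
  · -- the `p`-group case
    have hPG : IsPGroup p (G ⧸ K) := MinNonab.isPGroup_of_center h1 hp hexp hmin hZ
    obtain ⟨a, ha⟩ := IsPGroup.iff_card.1 hPG
    -- a nonlinear irreducible character of the quotient
    obtain ⟨f, hf, hf1⟩ : ∃ f ∈ charDegrees (G ⧸ K), f ≠ 1 := by
      by_contra hcon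
      push Not at hcon
      apply h1
      have hall : ∀ χ : IrrCharacter (G ⧸ K), (χ : G ⧸ K → ℂ) 1 = 1 := by
        intro χ
        obtain ⟨m, hm, hm'⟩ := isIrr_apply_one χ.2
        have := hcon m (mem_charDegrees.2 ⟨χ, χ.2, hm'⟩)
        rw [hm', this, Nat.cast_one]
      have hc := S0187.result.2 hall
      rw [commutator_eq_bot_iff_center_eq_top, Subgroup.eq_top_iff']
      intro x
      rw [Subgroup.mem_center_iff]
      intro y
      exact hc y x
    have hfp : ∃ b, f = p ^ b := by
      have h2 := dvd_card hf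
      rw [ha] at h2
      obtain ⟨b, -, hb⟩ := (Nat.dvd_prime_pow hp).1 h2
      exact ⟨b, hb⟩
    have hfpos := pos_of_mem hf
    refine ⟨p, f, hp, by omega, Or.inl ⟨hfp, ?_⟩⟩
    intro n hn
    by_cases hpn : p ∣ n
    · exact Or.inl hpn
    · right
      obtain ⟨χ, hχ, hχn⟩ := mem_charDegrees.1 hn
      have := Fintype.ofFinite K
      obtain ⟨ψ, d, hψ, hψd, hne, hd1, hd2⟩ := exists_constituent K hχ hχn
      have hidx : K.index = p ^ a := ha
      rw [hidx] at hd2
      have hnd : n / d = 1 := by
        have h2 : n / d ∣ n := Nat.div_dvd_of_dvd hd1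
        have h3 : (n / d).Coprime (p ^ a) := by
          refine Nat.Coprime.pow_right a ?_
          rw [Nat.coprime_comm, hp.coprime_iff_not_dvd]
          exact fun h => hpn (h.trans h2)
        exact Nat.eq_one_of_dvd_coprimes h3 dvd_rfl hd2
      have hdn : d = n := by
        have := Nat.div_mul_cancel hd1
        rw [hnd, one_mul] at this
        exact this
      have hres := restrict_eq_of_degree K (isIrr_isCharacter hχ) hψ hne (by
        rw [hχn, hψd, hdn])
      refine gallagher (QuotientGroup.mk' K) hπ K (fun k hk => ?_) hχ (by rw [hres]; exact hψ)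
        hχn hf
      exact (QuotientGroup.eq_one_iff k).2 hk

/-- **The dichotomy**, uniform version. -/
theorem exists_prime_degree {G : Type*} [Group G] [Finite G] [Group.IsSolvable G]
    (hG : commutator G ≠ ⊥) :
    ∃ (p : ℕ) (f : ℕ), p.Prime ∧ 1 < f ∧ ∀ n ∈ charDegrees G, ∃ d, d ∣ n ∧ n ∣ f * d ∧
      (p ∣ d ∨ f * d ∈ charDegrees G) := by
  obtain ⟨p, f, hp, hf, h⟩ := cases hG
  refine ⟨p, f, hp, hf, fun n hn => ?_⟩
  rcases h with ⟨-, h⟩ | ⟨-, h⟩
  · exact ⟨n, dvd_rfl, Dvd.intro_left f rfl, h n hn⟩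
  · obtain ⟨d, hd1, hd2, hd3⟩ := h n hn
    refine ⟨d, hd1, ?_, hd3⟩
    have := Nat.mul_dvd_mul_right hd2 d
    rwa [Nat.div_mul_cancel hd1] at this

end Cfsg.Agent.H681.DegStruct
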