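import Mathlib
import Cfsg.Agent.H712.GmnRed
import Cfsg.Agent.H681.GmnRgd
import Cfsg.Agent.FixBN.ReeSplit
import Cfsg.Agent.S0280
import Cfsg.Agent.ClassicalGeometry.AutPSL.SylowU
import Cfsg.Agent.ChevalleyStructure.SL2Hom
import Cfsg.Agent.Mrg.Omega.ML.Ex.Typ.List

/-!
# The rows of the groups of rank one in defining characteristic

* `rowS_of_central` : (C1) for the central elements of one Sylow subgroup;
* `rowS_Ree` : `²G₂(3^(2m+1))`, `p = 3`;
* `rowS_psl_two` : `PSL₂(q)`, `p ≥ 5`, `rowS_psl_two_three` : `PSL₂(q)`, `-1` a square.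
-/

set_option autoImplicit false
set_option linter.unusedSectionVars false

namespace Cfsg.Agent.H681.GmnRankOne

open Cfsg Subgroup Cfsg.Agent.H712.Gmn
open scoped Pointwise

section Central

variable {p : ℕ} {S : Type*} [Group S] [Finite S] [hp : Fact p.Prime]

/-- **(C1) for central elements of one Sylow subgroup.** -/
theorem rowS_of_central (hZ : center S = ⊥) (hd : p ∣ Nat.card S) (P : Sylow p S)
    (h : ∀ z ∈ P, z ≠ 1 → z ^ p = 1 → (∀ x ∈ P, x * z = z * x) → ∃ k : ℕ, ¬ k ≡ 1 [MOD p] ∧ IsConj z (z ^ k)) :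
    RowS p S := by
  refine RowS.of_not_bad hZ fun A hB => ?_
  obtain ⟨z, hz1, hzp, hzA, hz⟩ := hB.exists_fixed hZ hd
  obtain ⟨Q, hQ, -⟩ := hB.exists_sylow hZ
  obtain ⟨g, hg⟩ := MulAction.exists_smul_eq S Q P
  have hmem : ∀ x, x ∈ P → g⁻¹ * x * g ∈ Q := by
    intro x hx
    rw [← hg] at hx
    have hx' : x ∈ MulAut.conj g • (Q : Subgroup S) := hx
    rw [Subgroup.mem_pointwise_smul_iff_inv_smul_mem] at hx'
    rw [← map_inv, MulAut.smul_def, MulAut.conj_apply, inv_inv] at hx'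
    exact hx'
  have hmem' : ∀ x, x ∈ Q → g * x * g⁻¹ ∈ P := by
    intro x hx
    rw [← hg]
    exact Subgroup.smul_mem_pointwise_smul x (MulAut.conj g) _ hx
  obtain ⟨k, hk, hc⟩ := h (g * z * g⁻¹) (hmem' z ((hQ z).2 hzA)) (fun h0 => hz1 (conj_eq_one_iff.1 h0))
    (by rw [conj_pow, hzp, mul_one, mul_inv_cancel]) (fun x hx => by
      have h1 := hz _ ((hQ _).1 (hmem x hx))
      rw [MulAut.conj_apply] at h1
      have h2 : x * (g * z * g⁻¹) = g * ((g⁻¹ * x * g) * z * (g⁻¹ * x * g)⁻¹) * g⁻¹ * x := by group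
      rw [h2, h1])
  have hc' : IsConj z (z ^ k) := by
    rw [conj_pow] at hc
    have h1 : IsConj z (g * z * g⁻¹) := isConj_iff.2 ⟨g, rfl⟩
    have h2 : IsConj (z ^ k) (g * z ^ k * g⁻¹) := isConj_iff.2 ⟨g, rfl⟩
    exact h1.trans (hc.trans h2.symm)
  have h1 := hB.eq_of_isConj hZ hz hzA (fun a ha => by rw [map_pow, hz a ha]) hc'
  have h2 : orderOf z = p := orderOf_eq_prime hzp hz1
  apply hk
  rw [← h2, ← pow_eq_pow_iff_modEq, pow_one, ← h1]

theorem pred_not_modEq (hp2 : p ≠ 2) : ¬ p - 1 ≡ 1 [MOD p] := by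
  intro h3
  have hp1 := Nat.Prime.two_le (Fact.out : p.Prime)
  have h4 := (Nat.modEq_iff_dvd' (by omega : 1 ≤ p - 1)).1 h3.symm
  have h5 := Nat.le_of_dvd (by omega) h4
  omega

theorem rowS_of_central_real (hp2 : p ≠ 2) (hZ : center S = ⊥) (hd : p ∣ Nat.card S) (P : Sylow p S)
    (h : ∀ z ∈ P, z ≠ 1 → z ^ p = 1 → (∀ x ∈ P, x * z = z * x) → IsConj z z⁻¹) : RowS p S := by
  refine rowS_of_central hZ hd P fun z h0 h1 h2 h3 => ⟨p - 1, pred_not_modEq hp2, ?_⟩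
  have h3' : z ^ (p - 1) = z⁻¹ := by
    rw [eq_inv_iff_mul_eq_one, ← pow_succ, Nat.sub_add_cancel (Nat.Prime.one_le Fact.out), h2]
  rw [h3']
  exact h z h0 h1 h2 h3

end Central

/-! ### the Ree groups -/

section Ree

open Cfsg.Agent.LieRecognition.ReeAbs Cfsg.Agent.LieRecognition.ReeSylowThree Cfsg.Agent.FixBN.ReeSplit

variable {K : Type*} [Field K] [Fintype K] {m : ℕ} {G : Type*} [Group G] {U : K → K → K → G} {h : Kˣ → G} {n : G}

theorem rowS_Ree (hK : Fintype.card K = 3 ^ (2 * m + 1)) (D : Data m U h n) (hZ : center G = ⊥) : RowS 3 G := by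
  have : Finite G := finite D
  have : Fact (Nat.Prime 3) := ⟨Nat.prime_three⟩
  have hpg : IsPGroup 3 (uSub D) := by
    apply IsPGroup.of_card (n := (2 * m + 1) * 3)
    rw [card_uSub, hK, pow_mul]
  have hcard := card_eq D
  have hidx : (uSub D).index = (Fintype.card K - 1) * ((Fintype.card K) ^ 3 + 1) := by
    have h1 := (uSub D).card_mul_index
    rw [card_uSub, hcard, mul_assoc] at h1
    exact Nat.eq_of_mul_eq_mul_left (pow_pos (Fintype.card_pos) 3) h1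
  have hq : 3 ∣ Fintype.card K := by rw [hK]; exact dvd_pow_self 3 (by omega)
  have hn3 : ¬ 3 ∣ (uSub D).index := by
    rw [hidx, Nat.prime_three.dvd_mul]
    have h0 := Fintype.card_pos (α := K)
    obtain ⟨c, hc⟩ := hq
    rintro (h1 | h1)
    · obtain ⟨d, hd⟩ := h1
      omega
    · have h2 : 3 ∣ Fintype.card K ^ 3 := dvd_pow ⟨c, hc⟩ (by decide)
      rw [Nat.dvd_add_right h2] at h1
      omega
  have hmem : ∀ x, x ∈ hpg.toSylow hn3 ↔ x ∈ uSub D := fun x => Iff.rfl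
  refine rowS_of_central_real (by decide) hZ ?_ (hpg.toSylow hn3) ?_
  · rw [hcard]
    exact ((dvd_pow hq (by decide)).mul_right _).mul_right _
  rintro z hz hz1 - hcz
  obtain ⟨t, u, v, rfl⟩ := (mem_uSub D).1 ((hmem z).1 hz)
  have e1 := hcz (U 0 1 0) ((hmem _).2 ⟨_, _, _, rfl⟩)
  rw [D.U_mul, D.U_mul] at e1
  obtain ⟨-, -, e1⟩ := U_injective D e1
  have ht : t = 0 := by
    have h0 : (0 : K) ^ 3 ^ (m + 1) = 0 := zero_pow (by positivity)
    rw [h0] at e1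
    linear_combination -e1
  have e2 := hcz (U 1 0 0) ((hmem _).2 ⟨_, _, _, rfl⟩)
  rw [D.U_mul, D.U_mul] at e2
  obtain ⟨-, -, e2⟩ := U_injective D e2
  have hu : u = 0 := by
    rw [ht] at e2
    have h0 : (0 : K) ^ 3 ^ (m + 1) = 0 := zero_pow (by positivity)
    rw [h0, one_pow] at e2
    linear_combination e2
  subst ht
  subst hu
  refine isConj_iff.2 ⟨h (-1), ?_⟩
  have e3 := D.inv_mul_U 0 0 v
  rw [e3, mul_inv_cancel_right, eq_inv_iff_mul_eq_one, D.U_mul, ← D.U_zero]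
  congr 1 <;> simp

theorem rowS_isoRee {G : Type*} [Group G] (hG : Cfsg.Lie.IsoRee G) (hZ : center G = ⊥) : RowS 3 G := by
  obtain ⟨K, _, _, m, hm, hK, ⟨e⟩⟩ := hG
  obtain ⟨U, h, n, D⟩ := Cfsg.Agent.ChevalleyStructure.Ree.Data.exists_data hK
  have hZ' : center ↥(Cfsg.Lie.twistedG2 K (3 ^ m)) = ⊥ := by
    rw [Subgroup.eq_bot_iff_forall] at hZ ⊢
    intro x hx
    have h1 : e.symm x ∈ center G := by
      rw [mem_center_iff] at hx ⊢
      intro g
      apply e.injective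
      rw [map_mul, map_mul, e.apply_symm_apply]
      exact hx _
    have h2 := hZ _ h1
    rw [← e.apply_symm_apply x, h2, map_one]
  exact (rowS_Ree hK D hZ').congr e.symm

end Ree

/-! ### `PSL₂(q)` -/

section PSL

open Matrix Cfsg.Agent.ClassicalGeometry.AutPSL.Root Cfsg.Agent.ClassicalGeometry.AutPSL.SylowU
  Cfsg.Agent.ChevalleyStructure.SL2Hom

variable {F : Type*} [Field F] [Fintype F]

theorem up_add (s t : F) : up (s + t) = up s * up t := by
  apply Subtype.ext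
  rw [Matrix.SpecialLinearGroup.coe_mul]
  show !![1, s + t; 0, 1] = !![1, s; 0, 1] * !![1, t; 0, 1]
  ext i j
  fin_cases i <;> fin_cases j <;> simp [Matrix.mul_apply, Fin.sum_univ_two, add_comm]

theorem up_zero : up (0 : F) = 1 := by
  have := up_add (0 : F) 0
  rwa [add_zero, left_eq_mul] at this

theorem up_pow (t : F) (k : ℕ) : up t ^ k = up ((k : F) * t) := by
  induction k with
  | zero => rw [pow_zero, Nat.cast_zero, zero_mul, up_zero]
  | succ k ih => rw [pow_succ, ih, ← up_add, Nat.cast_succ, add_mul, one_mul]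

theorem eq_up {g : Matrix.SpecialLinearGroup (Fin 2) F} (hg : g ∈ upper 2 F) : ∃ t, g = up t := by
  refine ⟨g 0 1, Subtype.ext ?_⟩
  show (g : Matrix (Fin 2) (Fin 2) F) = !![1, g 0 1; 0, 1]
  rw [mem_upper] at hg
  have h00 := hg 0 0 le_rfl
  have h11 := hg 1 1 le_rfl
  have h10 := hg 1 0 (by decide)
  ext i j
  fin_cases i <;> fin_cases j
  · simpa using h00
  · rfl
  · simpa using h10
  · simpa using h11

/-- `diag(a, a⁻¹)` -/
def dg (a : Fˣ) : Matrix.SpecialLinearGroup (Fin 2) F := ⟨!![(a : F), 0; 0, ((a⁻¹ : Fˣ) : F)], by simp [Matrix.det_fin_two]⟩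

theorem dg_conj (a : Fˣ) (t : F) : dg a * up t * (dg a)⁻¹ = up ((a : F) ^ 2 * t) := by
  rw [mul_inv_eq_iff_eq_mul]
  apply Subtype.ext
  rw [Matrix.SpecialLinearGroup.coe_mul, Matrix.SpecialLinearGroup.coe_mul]
  show !![(a : F), 0; 0, ((a⁻¹ : Fˣ) : F)] * !![1, t; 0, 1] = !![1, (a : F) ^ 2 * t; 0, 1] * !![(a : F), 0; 0, ((a⁻¹ : Fˣ) : F)]
  ext i j
  fin_cases i <;> fin_cases j <;> simp [Matrix.mul_apply, Fin.sum_univ_two]
  field_simp

/-- **`PSL₂(q)`**: `k` a square in the prime field. -/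
theorem rowS_psl_two {p : ℕ} [hp : Fact p.Prime] [CharP F p] (hZ : center (Matrix.ProjectiveSpecialLinearGroup (Fin 2) F) = ⊥)
    {k : ℕ} (hk : ¬ k ≡ 1 [MOD p]) {a : Fˣ} (ha : (k : F) = (a : F) ^ 2) :
    RowS p (Matrix.ProjectiveSpecialLinearGroup (Fin 2) F) := by
  have : Finite (Matrix.ProjectiveSpecialLinearGroup (Fin 2) F) := Quotient.finite _
  obtain ⟨P, hP⟩ := Cfsg.Agent.ClassicalGeometry.AutPSL.SylowU.exists_sylow (F := F) 2 p
  refine rowS_of_central hZ ?_ P fun z hz hz1 _ _ => ⟨k, hk, ?_⟩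
  · have h1 : Nat.card ((upper 2 F).map pr) = Fintype.card F ^ (2 * (2 - 1) / 2) := card_map_upper 2
    have h2 : Nat.card ((upper 2 F).map pr) ∣ Nat.card (Matrix.ProjectiveSpecialLinearGroup (Fin 2) F) :=
      Subgroup.card_subgroup_dvd_card _
    rw [h1] at h2
    obtain ⟨f, hpf, hf⟩ := FiniteField.card F p
    refine dvd_trans ?_ h2
    rw [hf]
    exact dvd_pow (dvd_pow_self p f.ne_zero) (by decide)
  · have hz' : z ∈ (P : Subgroup _) := hz
    rw [hP] at hz'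
    obtain ⟨g, hg, rfl⟩ := hz'
    obtain ⟨t, rfl⟩ := eq_up hg
    refine isConj_iff.2 ⟨pr (dg a), ?_⟩
    rw [← map_mul, ← map_inv, ← map_mul, dg_conj, ← map_pow, up_pow, ha]

theorem rowS_psl_two_five {p : ℕ} [hp : Fact p.Prime] [CharP F p] (h5 : 5 ≤ p)
    (hZ : center (Matrix.ProjectiveSpecialLinearGroup (Fin 2) F) = ⊥) :
    RowS p (Matrix.ProjectiveSpecialLinearGroup (Fin 2) F) := by
  have h2 : (2 : F) ≠ 0 := by
    intro h
    have h1 : ((2 : ℕ) : F) = 0 := by exact_mod_cast h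
    rw [CharP.cast_eq_zero_iff F p] at h1
    have := Nat.le_of_dvd (by decide) h1
    omega
  refine rowS_psl_two hZ (k := 4) ?_ (a := Units.mk0 2 h2) ?_
  · intro h
    have h3 := (Nat.modEq_iff_dvd' (by omega : 1 ≤ 4)).1 h.symm
    have := Nat.le_of_dvd (by decide) h3
    omega
  · rw [Units.val_mk0]; norm_num

theorem rowS_psl_two_sq {p : ℕ} [hp : Fact p.Prime] [CharP F p] (hp2 : p ≠ 2) (hsq : IsSquare (-1 : F))
    (hZ : center (Matrix.ProjectiveSpecialLinearGroup (Fin 2) F) = ⊥) :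
    RowS p (Matrix.ProjectiveSpecialLinearGroup (Fin 2) F) := by
  obtain ⟨a, ha⟩ := hsq
  have ha0 : a ≠ 0 := by
    rintro rfl
    rw [mul_zero, neg_eq_zero] at ha
    exact one_ne_zero ha
  refine rowS_psl_two hZ (k := p - 1) (pred_not_modEq hp2) (a := Units.mk0 a ha0) ?_
  rw [Units.val_mk0, sq, ← ha, Nat.cast_sub hp.out.one_le, CharP.cast_eq_zero, Nat.cast_one, zero_sub]

end PSL

/-! ### Centralisers of Sylow subgroups -/

section Cent

open CoxeterSystem Cfsg.Agent.ChevalleyStructure.CoxeterGeom Cfsg.Agent.Tits.Roots Cfsg.Agent.Tits.Core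
  Cfsg.Agent.Tits.Exchange Cfsg.Agent.Nodes.Reps Cfsg.Agent.Nodes.BNOf Cfsg.Agent.Nodes.StabComb
  Cfsg.Agent.Nodes.Bruhat Cfsg.Agent.Nodes.OppDec Cfsg.Agent.Nodes.LeviDec Cfsg.Agent.Nodes.NormalForm
  Cfsg.Agent.KFacts.RgdOpp Cfsg.Agent.KFacts.RgdAut Cfsg.Agent.KFacts.RgdDiag Cfsg.Agent.KFacts.RgdRigid
  Cfsg.Agent.H142.GmnPC Cfsg.Agent.H681.GmnRgd

variable {I W Y : Type*} [Fintype I] [DecidableEq I] [Group W] [Group Y] {M : CoxeterMatrix I}
  {cs : CoxeterSystem M W} {A : I → I → ℤ} {h : IsCartan M A} {p : ℕ} {T : Subgroup Y} {n : I → Y}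
  {X : (I → ℤ) → Subgroup Y}

/-- the centraliser of a Sylow subgroup is a `p`-group, in defining characteristic -/
theorem cent_of_rgd [Finite W] [Finite Y] [hp : Fact p.Prime] (R : RGD cs h p T n X)
    (hG1 : RGD.Sup X {x | IsRoot cs h x} = ⊤) (hZ : Subgroup.center Y = ⊥) (Q : Sylow p Y) (s : Y)
    (hs : ¬ p ∣ orderOf s) (hc : ∀ t ∈ Q, s * t * s⁻¹ = t) : s = 1 := by
  have hG := GG_eq_top (T := T) hG1
  obtain ⟨P, hP⟩ := R.isPGroup_Upos.exists_le_sylow
  have hPU : (P : Subgroup Y) = RGD.Sup X (RGD.Pos cs h) :=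
    eq_U_of_isPGroup R P.isPGroup' hP (by rw [hG]; exact le_top)
  obtain ⟨g, hg⟩ := MulAction.exists_smul_eq Y Q P
  have hmem : ∀ x ∈ RGD.Sup X (RGD.Pos cs h), g⁻¹ * x * g ∈ Q := by
    intro x hx
    rw [← hPU, ← hg] at hx
    have hx' : x ∈ MulAut.conj g • (Q : Subgroup Y) := hx
    rw [Subgroup.mem_pointwise_smul_iff_inv_smul_mem] at hx'
    rw [← map_inv, MulAut.smul_def, MulAut.conj_apply, inv_inv] at hx'
    exact hx'
  obtain ⟨s', hs'⟩ : ∃ s', s' = g * s * g⁻¹ := ⟨_, rfl⟩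
  have hc' : ∀ x ∈ RGD.Sup X (RGD.Pos cs h), s' * x * s'⁻¹ = x := by
    intro x hx
    have h1 := hc _ (hmem x hx)
    have h2 : s' * x * s'⁻¹ = g * (s * (g⁻¹ * x * g) * s⁻¹) * g⁻¹ := by rw [hs']; group
    rw [h2, h1]
    group
  have hord : orderOf s' = orderOf s := by
    rw [hs', show g * s * g⁻¹ = MulAut.conj g s from rfl]
    exact orderOf_injective (MulAut.conj g).toMonoidHom (MulAut.conj g).injective s
  have hB : s' ∈ RGD.B cs h T X := by
    rw [← normalizer_U' R hG, Subgroup.mem_normalizer_iff]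
    intro x
    refine ⟨fun hx => by rw [hc' x hx]; exact hx, fun hx => ?_⟩
    have h1 := hc' _ hx
    have h2 : s' * (s' * x * s'⁻¹) = (s' * x * s'⁻¹) * s' := by
      calc s' * (s' * x * s'⁻¹) = s' * (s' * x * s'⁻¹) * s'⁻¹ * s' := by group
        _ = _ := by rw [h1]
    have h3 : s' * x * s'⁻¹ = x := by
      have h4 : s' * x = x * s' := by
        have h5 : s' * (s' * x) * s'⁻¹ = s' * x := by
          calc s' * (s' * x) * s'⁻¹ = s' * (s' * x * s'⁻¹) := by group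
            _ = s' * x := by rw [h2]; group
        calc s' * x = s'⁻¹ * (s' * (s' * x) * s'⁻¹) * s' := by group
          _ = s'⁻¹ * (s' * x) * s' := by rw [h5]
          _ = x * s' := by group
      rw [h4, mul_inv_cancel_right]
    rwa [h3] at hx
  obtain ⟨t, ht, u, hu, e⟩ := R.mem_B.1 hB
  have hconj : ∀ x ∈ RGD.Sup X (RGD.Pos cs h), t * x * t⁻¹ = u⁻¹ * x * u := by
    intro x hx
    have h1 := hc' (u⁻¹ * x * u) (mul_mem (mul_mem (inv_mem hu) hx) hu)
    have h2 : s' * (u⁻¹ * x * u) * s'⁻¹ = t * x * t⁻¹ := by rw [e]; group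
    rw [← h2, h1]
  have hpow : ∀ k : ℕ, ∀ x ∈ RGD.Sup X (RGD.Pos cs h), t ^ k * x * (t ^ k)⁻¹ = (u ^ k)⁻¹ * x * u ^ k := by
    intro k
    induction k with
    | zero => intro x _; simp
    | succ k ih =>
      intro x hx
      have h1 : t ^ (k + 1) * x * (t ^ (k + 1))⁻¹ = t ^ k * (t * x * t⁻¹) * (t ^ k)⁻¹ := by
        rw [pow_succ]; group
      rw [h1, hconj x hx, ih _ (mul_mem (mul_mem (inv_mem hu) hx) hu), pow_succ']
      group
  obtain ⟨k, hk⟩ := R.isPGroup_Upos ⟨u, hu⟩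
  have hk' : u ^ p ^ k = 1 := by simpa using congrArg Subtype.val hk
  have h1 : t ^ p ^ k = 1 := by
    refine eq_one_of_cent R hG1 hZ (pow_mem ht _) fun i x hx => ?_
    rw [hpow _ x (RGD.le_Sup (S := RGD.Pos cs h) ⟨isRoot_sr cs h i, sr_nonneg i⟩ hx), hk']
    group
  have h2 : t = 1 := eq_one_of_mem_T R ht h1
  rw [h2, one_mul] at e
  have h3 : s' = 1 := by
    rw [← orderOf_eq_one_iff]
    have h4 : orderOf s' ∣ p ^ k := orderOf_dvd_of_pow_eq_one (by rw [e]; exact hk')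
    obtain ⟨j, -, hj⟩ := (Nat.dvd_prime_pow hp.out).1 h4
    rcases Nat.eq_zero_or_pos j with rfl | hj0
    · rw [hj, pow_zero]
    · exact absurd (by rw [← hord, hj]; exact dvd_pow_self p hj0.ne') hs
  rw [hs'] at h3
  exact conj_eq_one_iff.1 h3

end Cent

/-! ### `PSU₃(q)` -/

section PSU

open Cfsg.Agent.Omega.ML.Ex.Typ

theorem rowS_PSU_three {F : Type*} [Field F] [Fintype F] {q : ℕ} (hF : Fintype.card F = q ^ 2) {p : ℕ}
    [hp : Fact p.Prime] [CharP F p] (hp2 : p ≠ 2) (hZ : center (PSU 3 F q) = ⊥) : RowS p (PSU 3 F q) := by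
  have hfin : Finite (PSU 3 F q) := Quotient.finite _
  obtain ⟨m, hm, A, h, T, n, X, hW, R, hX⟩ := typ_PSU (p := p) hF (le_refl 3)
  refine RowS.of_row ?_ (cent_of_rgd R hX hZ)
  obtain ⟨f, hpf, hf⟩ := FiniteField.card F p
  -- `q` is a power of `p`
  obtain ⟨e, -, he⟩ : ∃ e, e ≤ (f : ℕ) ∧ q = p ^ e := by
    have h1 : q ∣ p ^ (f : ℕ) := by rw [← hf, hF]; exact dvd_pow_self q (by decide)
    exact (Nat.dvd_prime_pow hp.out).1 h1
  have he0 : e ≠ 0 := by
    rintro rfl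
    rw [he, pow_zero, one_pow] at hF
    have := Fintype.one_lt_card (α := F)
    omega
  have h1 := Cfsg.Agent.S0280.result hF 3 (by decide)
  rw [Finset.prod_range_succ, Finset.prod_range_succ, Finset.prod_range_one] at h1
  simp only [Nat.reduceMul, Nat.reduceSub, Nat.reduceDiv, Nat.reduceAdd, Even.zero, if_true, Nat.not_even_one, if_false,
    even_two] at h1
  obtain ⟨N, hN⟩ : ∃ N, N = Nat.card (PSU 3 F q) := ⟨_, rfl⟩
  obtain ⟨d, hd⟩ : ∃ d, d = Nat.gcd 3 (q + 1) := ⟨_, rfl⟩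
  rw [← hN, ← hd, pow_one] at h1
  have hpq : p ∣ q := by rw [he]; exact dvd_pow_self p he0
  have hd3 : d = 1 ∨ d = 3 := (Nat.dvd_prime Nat.prime_three).1 (hd ▸ Nat.gcd_dvd_left 3 (q + 1))
  have hpd : ¬ p ∣ d := by
    intro h2
    have h3 : p ∣ q + 1 := h2.trans (hd ▸ Nat.gcd_dvd_right 3 (q + 1))
    rw [Nat.dvd_add_right hpq] at h3
    exact hp.out.one_lt.ne' (Nat.dvd_one.1 h3)
  have hcop : Nat.Coprime (q ^ 3) d := by
    rw [he, ← pow_mul]
    exact Nat.Coprime.pow_left _ ((Nat.Prime.coprime_iff_not_dvd hp.out).2 hpd)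
  have h2 : d * N = q ^ 3 * ((q ^ 2 - 1) * (q ^ 3 + 1)) := by
    have h3 : (q + 1) * (d * N) = (q + 1) * (q ^ 3 * ((q ^ 2 - 1) * (q ^ 3 + 1))) := by
      calc (q + 1) * (d * N) = d * ((q + 1) * N) := by ring
        _ = _ := by rw [h1]; ring
    exact Nat.eq_of_mul_eq_mul_left (by omega) h3
  obtain ⟨k, hk⟩ : q ^ 3 ∣ N := hcop.dvd_of_dvd_mul_left (by rw [h2]; exact dvd_mul_right _ _)
  have hq0 : 0 < q := by rw [he]; exact pow_pos hp.out.pos e
  have h3 : d * k = (q ^ 2 - 1) * (q ^ 3 + 1) := by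
    have h4 : q ^ 3 * (d * k) = q ^ 3 * ((q ^ 2 - 1) * (q ^ 3 + 1)) := by
      rw [← h2, hk]; ring
    exact Nat.eq_of_mul_eq_mul_left (pow_pos hq0 3) h4
  have h4 : ((d * k : ℕ) : ZMod p) = -1 := by
    have hq' : (q : ZMod p) = 0 := (ZMod.natCast_eq_zero_iff q p).2 hpq
    rw [h3, Nat.cast_mul, Nat.cast_sub (Nat.one_le_pow _ _ hq0), Nat.cast_add, Nat.cast_pow, Nat.cast_pow, hq']
    simp
  refine Row.of_card' hZ (a := e * 3) (m := k) (by rw [← hN, hk, he, ← pow_mul]) ?_ ?_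
  · intro h5
    have h6 : ((d * k : ℕ) : ZMod p) = 0 := (ZMod.natCast_eq_zero_iff _ p).2 (dvd_mul_of_dvd_right h5 d)
    rw [h6, eq_comm, neg_eq_zero] at h4
    exact one_ne_zero h4
  · intro h5
    have h6 : (k : ZMod p) = ((1 : ℕ) : ZMod p) := (ZMod.natCast_eq_natCast_iff _ _ _).2 h5
    rw [Nat.cast_mul, h6, Nat.cast_one, mul_one] at h4
    have h7 : ((d + 1 : ℕ) : ZMod p) = 0 := by rw [Nat.cast_add, h4, Nat.cast_one, neg_add_cancel]
    rw [ZMod.natCast_eq_zero_iff] at h7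
    have h8 : p ∣ 2 ^ 2 := by
      rcases hd3 with h | h <;> rw [h] at h7
      · exact h7.trans (by decide)
      · exact h7
    exact hp2 ((Nat.prime_dvd_prime_iff_eq hp.out Nat.prime_two).1 (hp.out.dvd_of_dvd_pow h8))

end PSU

end Cfsg.Agent.H681.GmnRankOne
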