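import Mathlib
import Cfsg.Agent.H483.Rad23.Base
import Cfsg.Agent.CTwoTab.Ru
import Cfsg.Agent.OddHalf.D4.Spor.RuIso
import Cfsg.Agent.RuC.Trans
import Cfsg.Agent.OddHalf.Table.OutBasic

/-!
# Radical involutions of the Rudvalis group (helper681, for S3832, S4336)

The group has subgroups `V = 2²`, `L ≅ Sz(8)`, `[V, L] = 1`; every involution is conjugate to one of `L` or to an element
`v z`, `v ∈ V`, `z` an involution of `L` (a growth element maps `v` to `v z`); both normalise `L`, a proper simple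
subgroup, and do not centralise it.
-/

set_option autoImplicit false

namespace Cfsg.Agent.H681.RadRu

open Subgroup Cfsg Cfsg.Agent.H483.Rad23 Cfsg.Agent.H459.Rad
open Cfsg.Agent.RuB Cfsg.Agent.RuB.Core Cfsg.Agent.CTwoTab.Ru

/-- **No inner involution of the Rudvalis group is radical.** -/
theorem noRCI {K : Type*} [Group K] [Finite K] (h : Cfsg.Spor.IsoRu K) : NoRCI 2 K := by
  intro x hx hR
  have hcard := Cfsg.Agent.RuC.Trans.natCard_of_isoRu h
  have hs := Cfsg.Agent.RuC.Trans.isSimple_of_isoRu h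
  obtain ⟨C, hsz, hL⟩ := exists_core_sz h
  have hLs : IsSimpleGroup ↥C.L := simple_sz hsz
  have hcL : center ↥C.L = ⊥ := OddHalf.Table.OutBasic.center_eq_bot (by rw [hL]; norm_num)
  have hLt : C.L ≠ ⊤ := by
    intro h1
    rw [h1, card_top, hcard] at hL
    norm_num at hL
  have hna : ¬ Group.IsSolvable ↥C.L := by
    intro h1
    have h2 := IsSimpleGroup.comm_iff_isSolvable.2 h1
    have h3 : center ↥C.L = ⊤ := by
      rw [eq_top_iff]
      intro a _
      rw [mem_center_iff]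
      intro b
      exact h2 b a
    rw [h3] at hcL
    exact top_ne_bot hcL
  -- an element normalising `L`
  have key : ∀ y : K, RC (MulAut.conj y) → (∀ l ∈ C.L, y * l * y⁻¹ ∈ C.L) → ∀ l ∈ C.L, y * l * y⁻¹ = l := by
    intro y hy hn l hl
    exact Cfsg.Agent.H483.Rad23.RC.eq_of_simple hy hLt hn hLs hna hl
  have hz : ∀ b : K8, b ≠ 0 → ¬ ∀ l ∈ C.L, C.z b * l * (C.z b)⁻¹ = l := by
    intro b hb h1
    have h2 : (⟨C.z b, C.z_mem b⟩ : ↥C.L) ∈ center ↥C.L := by
      rw [mem_center_iff]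
      intro l
      apply Subtype.ext
      have h3 := h1 l l.2
      rw [mul_inv_eq_iff_eq_mul] at h3
      exact h3.symm
    rw [hcL, mem_bot] at h2
    exact hb (C.z_eq_one (congrArg Subtype.val h2))
  have hxx : x * x = 1 := by rw [← pow_two, ← hx, pow_orderOf_eq_one]
  have hx1 : x ≠ 1 := by
    rintro rfl
    rw [orderOf_one] at hx
    omega
  rcases Cfsg.Agent.KFacts.Ru.InvC.invol_cases C hxx hx1 with ⟨g, hg⟩ | ⟨g, a, ha, hg⟩
  · have h1 : g⁻¹ * x * g⁻¹⁻¹ = C.z 1 := by rw [← hg]; group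
    have h2 := H839.Rad.rc_conj hR g⁻¹
    rw [h1] at h2
    exact hz 1 one_ne_zero (key _ h2 fun l hl => C.L.mul_mem (C.L.mul_mem (C.z_mem 1) hl) (C.L.inv_mem (C.z_mem 1)))
  · obtain ⟨y, -, hy⟩ := C.grow 1
    have hne : emb a ≠ 0 := (by decide : ∀ a : A4, a ≠ 0 → emb a ≠ 0) a ha
    have h1 : (y * g⁻¹) * x * (y * g⁻¹)⁻¹ = C.v a * C.z (1 * emb a) := by
      rw [← hg]
      have h2 : y * g⁻¹ * (g * C.v a * g⁻¹) * (y * g⁻¹)⁻¹ = y * C.v a * y⁻¹ := by group
      rw [h2]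
      exact hy a
    have h2 := H839.Rad.rc_conj hR (y * g⁻¹)
    rw [h1] at h2
    rw [one_mul] at h2
    have h3 : ∀ l ∈ C.L, C.v a * C.z (emb a) * l * (C.v a * C.z (emb a))⁻¹ = C.z (emb a) * l * (C.z (emb a))⁻¹ := by
      intro l hl
      have h4 : C.z (emb a) * l * (C.z (emb a))⁻¹ ∈ C.L :=
        C.L.mul_mem (C.L.mul_mem (C.z_mem _) hl) (C.L.inv_mem (C.z_mem _))
      have h5 := C.v_comm a _ h4
      calc C.v a * C.z (emb a) * l * (C.v a * C.z (emb a))⁻¹
          = C.v a * (C.z (emb a) * l * (C.z (emb a))⁻¹) * (C.v a)⁻¹ := by group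
        _ = C.z (emb a) * l * (C.z (emb a))⁻¹ := by rw [h5]; group
    refine hz (emb a) hne fun l hl => ?_
    rw [← h3 l hl]
    refine key _ h2 (fun l hl => ?_) l hl
    rw [h3 l hl]
    exact C.L.mul_mem (C.L.mul_mem (C.z_mem _) hl) (C.L.inv_mem (C.z_mem _))

/-- **The Rudvalis group.** -/
theorem noRC {K : Type*} [Group K] [Finite K] (h : Cfsg.Spor.IsoRu K) : NoRC 2 K := by
  have hcard := Cfsg.Agent.RuC.Trans.natCard_of_isoRu h
  have hs := Cfsg.Agent.RuC.Trans.isSimple_of_isoRu h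
  refine noRC_of_inner (OddHalf.Table.OutBasic.center_eq_bot (by rw [hcard]; norm_num)) (fun x _ => ?_) (noRCI h)
  exact Cfsg.Agent.OddHalf.D4.Spor.RuIso.inn h x

theorem row2_ru {K : Type*} [Group K] [Finite K] [IsSimpleGroup K] (h : Cfsg.Spor.IsoRu K) : Row23 2 K := (noRC h).row

end Cfsg.Agent.H681.RadRu
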