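import Cfsg.Agent.H559.PrimesLe

/-!
# Known simple groups with all prime divisors at most 17, divisible by 17 and one of 11, 13 (helper681)
-/

set_option autoImplicit false

namespace Cfsg.Agent.H681.NarrowSeventeen

open Cfsg Cfsg.Agent.OrdDiv Cfsg.Agent.H436 Cfsg.Agent.H559.PrimesLe

universe u

/-- the primes -/
def ps : List ℕ := [2, 3, 5, 7, 11, 13, 17]

/-- the names -/
def L17 : List Grp :=
  [.alt 17, .alt 18, .f4 2, .ominus 5 2, .psp 3 4, .oodd 3 4, .psu 4 4, .oplus 4 4, .psl 3 16, .psp 2 13, .psl 2 169,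
    .psu 3 17]

theorem check : ∀ g ∈ cand ps 17 19, (sm ps (ordN g) && Nat.beq (ordN g % 17) 0 &&
    (Nat.beq (ordN g % 11) 0 || Nat.beq (ordN g % 13) 0) && !(L17.contains g)) = false := by
  decide +kernel

theorem mem_ps {r : ℕ} (hr : r.Prime) (h : r ≤ 17) : r ∈ ps := by
  interval_cases r <;> first | (exfalso; revert hr; decide) | decide

/-- **The simple groups with primes at most 17.** -/
theorem mem_list {S : Type u} [Group S] [Finite S] {g : Grp} (h : IsNamed g S)
    (hS : ∀ r, r.Prime → r ∣ Nat.card S → r ≤ 17) (h17 : 17 ∣ Nat.card S) (h11 : 11 ∣ Nat.card S ∨ 13 ∣ Nat.card S) :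
    g ∈ L17 := by
  have h1 := smooth_list h (ps := ps) (B := 17) (N := 19) (by norm_num) (by decide) (by norm_num)
    (by decide) (fun r hr hd => mem_ps hr (hS r hr hd))
  rw [List.mem_filter] at h1
  obtain ⟨h1, h2⟩ := h1
  have h3 := check g h1
  by_contra hL
  rw [h2, ← h.ord] at h3
  have h4 : Nat.beq (Nat.card S % 17) 0 = true := by rw [Nat.beq_eq]; exact Nat.mod_eq_zero_of_dvd h17
  have h5 : (Nat.beq (Nat.card S % 11) 0 || Nat.beq (Nat.card S % 13) 0) = true := by
    rw [Bool.or_eq_true, Nat.beq_eq, Nat.beq_eq]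
    exact h11.imp Nat.mod_eq_zero_of_dvd Nat.mod_eq_zero_of_dvd
  have h6 : L17.contains g = false := by
    rw [Bool.eq_false_iff]
    intro hc
    exact hL (List.contains_iff_mem.1 hc)
  rw [h4, h5, h6] at h3
  simp at h3

end Cfsg.Agent.H681.NarrowSeventeen
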