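import Cfsg.Agent.H421.Six
import Cfsg.Agent.H681.RowSeventeenCore

/-!
# Groups with the spectrum of `Alt n` or `Sym n`, `n = 17, 18` (helper681, for S3397, S3446)

`row17`, `row18` : the quotient by a solvable normal subgroup is `Alt m` or `Sym m`, `17 ≤ m ≤ n`.
-/

set_option autoImplicit false

namespace Cfsg.Agent.H681.RowSeventeen

open Cfsg Cfsg.Agent.H357.Sp Cfsg.Agent.H681.RowSeventeenCore

theorem main {G : Type} [Group G] [Finite G] {ε n : ℕ} (hn : n = 17 ∨ n = 18) (hε : ε = 0 ∨ ε = 2) (h : Spec ε n G) :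
    ∃ (N : Subgroup G) (_ : N.Normal), Group.IsSolvable ↥N ∧ ∃ m, 17 ≤ m ∧ m ≤ n ∧ Top m N := by
  have hf := facts hn hε h
  obtain ⟨K, hKn, S, hSn, hsec⟩ := Cfsg.Agent.H421.Six.exists_sec (G := G) p17 p11 p13 (by norm_num) (by norm_num)
    (by norm_num) hf.d2 (by norm_num) hf.d17 hf.d11 hf.d13 (fun g hg => hf.iso 2 Nat.prime_two (by norm_num) g
    (by rw [hg])) (hf.iso 11 p11 (by norm_num)) (hf.iso 13 p13 (by norm_num)) hf.n1113
  have hsimp := hsec.simple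
  obtain ⟨g, hg⟩ := Cfsg.Agent.H436.name (G := S) hsec.nonab
  exact core hf K S ⟨hsec.solv, hsec.simple, hsec.nonab, hsec.cent, hsec.cocl⟩ hg

theorem row17 (ε : ℕ) (hε : ε = 0 ∨ ε = 2) : Row ε 17 17 := fun _ _ _ h => main (Or.inl rfl) hε h

theorem row18 (ε : ℕ) (hε : ε = 0 ∨ ε = 2) : Row ε 18 17 := fun _ _ _ h => main (Or.inr rfl) hε h

end Cfsg.Agent.H681.RowSeventeen
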