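import Mathlib
import Cfsg.Agent.H470.NoBad
import Cfsg.Agent.CpAutTits.Row
import Cfsg.Agent.EvenType.ChevTwoTits
import Cfsg.Agent.J2Sylow.J3EndAux
import Cfsg.Agent.OddHalf.Table.OutBasic
import Cfsg.Agent.S1074

/-!
# No bad elements of order `3` in the Tits group (helper681, for S3877)
-/

set_option autoImplicit false

namespace Cfsg.Agent.H681.NoBadTits

open Subgroup Cfsg Cfsg.Agent.H470

theorem isSimple {K : Type*} [Group K] (h : Lie.IsoTits K) : IsSimpleGroup K := by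
  obtain ⟨e⟩ := h
  have hs : IsSimpleGroup Cfsg.Lie.TitsGroup := Cfsg.Agent.S1074.result.2.1
  have hn : Nontrivial K := e.toEquiv.nontrivial
  exact IsSimpleGroup.isSimpleGroup_of_surjective e.symm.toMonoidHom e.symm.surjective

/-- **The Tits group.** -/
theorem noBad_Tits {K : Type*} [Group K] [Finite K] (h : Lie.IsoTits K) : NoBad 3 K := by
  intro x hx
  have hs := isSimple h
  have O := CpAutTits.Row.out h
  have hct := EvenType.ChevTwoTits.charTwo h
  have hcard := O.card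
  have hc : center K = ⊥ := OddHalf.Table.OutBasic.center_eq_bot (by rw [hcard]; norm_num)
  have ho := hx.odd_centralizer (by norm_num) hc
    (fun t ht => Cfsg.Agent.J2Sylow.J3EndAux.centralizerPPrimeCore_eq_bot hct ht)
  have hf2 : Fact (Nat.Prime 2) := ⟨Nat.prime_two⟩
  have hf5 : Fact (Nat.Prime 5) := ⟨by norm_num⟩
  -- the order of the centralizer
  have h5 : ¬ 5 ∣ Nat.card ↥(centralizer ({x} : Set K)) := by
    intro h5
    obtain ⟨y, hy⟩ := exists_prime_orderOf_dvd_card' 5 h5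
    have hy2 : orderOf (y : K) = 5 := by rw [← hy]; exact Subgroup.orderOf_coe y
    exact O.ncomm x y hx.ord hy2 (mem_centralizer_singleton_iff.1 y.2).symm
  have hd : Nat.card ↥(centralizer ({x} : Set K)) ∣ 2 ^ 11 * 3 ^ 3 * 5 ^ 2 * 13 := by
    rw [← hcard]; exact Subgroup.card_subgroup_dvd_card _
  have h2 : Nat.Coprime (Nat.card ↥(centralizer ({x} : Set K))) (2 ^ 11) :=
    Nat.Coprime.pow_right _ (Nat.coprime_two_right.2 ho)
  have h25 : Nat.Coprime (Nat.card ↥(centralizer ({x} : Set K))) (5 ^ 2) :=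
    Nat.Coprime.pow_right _ ((Nat.Prime.coprime_iff_not_dvd (by norm_num)).2 h5).symm
  have hd1 : Nat.card ↥(centralizer ({x} : Set K)) ∣ 2 ^ 11 * (5 ^ 2 * 351) := by
    rwa [show (2 : ℕ) ^ 11 * (5 ^ 2 * 351) = 2 ^ 11 * 3 ^ 3 * 5 ^ 2 * 13 by norm_num]
  have hd2 := h25.dvd_of_dvd_mul_left (h2.dvd_of_dvd_mul_left hd1)
  have hle := Nat.le_of_dvd (by norm_num) hd2
  -- the Sylow 2-subgroups
  obtain ⟨P⟩ : Nonempty (Sylow 2 K) := inferInstance
  have h11 : (2 : ℕ) ^ 11 ∣ Nat.card P := by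
    refine P.pow_dvd_card_of_pow_dvd_card ?_
    rw [hcard]
    norm_num
  have h12 := Nat.le_of_dvd Nat.card_pos h11
  have h13 := hx.card_ge P.isPGroup'
  norm_num at h12
  have h14 : Nat.card P = Nat.card (P : Subgroup K) := rfl
  omega

end Cfsg.Agent.H681.NoBadTits
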