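import Mathlib
import Cfsg.Prelude.Def_Classical
import Cfsg.Agent.H712.GmnStrong

/-!
# The rows of the alternating groups (helper681)

* `rowS_alternating` : `RowS p (alternatingGroup (Fin n))`, `5 ≤ n`, `p` odd, `p ∣ n! / 2`.
-/

set_option autoImplicit false
set_option linter.unusedSectionVars false

namespace Cfsg.Agent.H681.GmnAlt

open Cfsg Subgroup Equiv.Perm Cfsg.Agent.H712.Gmn

section

variable {α : Type*} [Fintype α] [DecidableEq α] {p : ℕ} [hp : Fact p.Prime]

/-- elements of prime order are conjugate to their nontrivial powers -/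
theorem isConj_pow {z : Equiv.Perm α} (hz : orderOf z = p) {k : ℕ} (hk : Nat.Coprime k p) : IsConj z (z ^ k) := by
  rw [isConj_iff_cycleType_eq]
  have h1 : orderOf (z ^ k) = p := by
    rw [Nat.Coprime.orderOf_pow (by rw [hz]; exact hk.symm), hz]
  obtain ⟨a, ha⟩ := cycleType_prime_order (σ := z) (by rw [hz]; exact hp.out)
  obtain ⟨b, hb⟩ := cycleType_prime_order (σ := z ^ k) (by rw [h1]; exact hp.out)
  have h2 : (z ^ k).support = z.support := support_pow_coprime (by rw [hz]; exact hk)
  have h3 := sum_cycleType z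
  have h4 := sum_cycleType (z ^ k)
  rw [ha, Multiset.sum_replicate, hz, smul_eq_mul] at h3
  rw [hb, Multiset.sum_replicate, h1, h2, ← h3, smul_eq_mul] at h4
  have h5 := Nat.eq_of_mul_eq_mul_right hp.out.pos h4
  rw [ha, hb, hz, h1, h5]

/-- conjugation in the alternating group -/
theorem isConj_alt {x y : alternatingGroup α} {σ : Equiv.Perm α} (hσ : σ ∈ alternatingGroup α)
    (h : σ * x * σ⁻¹ = y) : IsConj x y :=
  isConj_iff.2 ⟨⟨σ, hσ⟩, Subtype.ext h⟩

theorem exists_powConj (hp2 : p ≠ 2) (h5 : 5 ≤ Fintype.card α) (z : alternatingGroup α) (hz1 : z ≠ 1)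
    (hzp : z ^ p = 1) : ∃ k : ℕ, ¬ k ≡ 1 [MOD p] ∧ IsConj z (z ^ k) := by
  have hz : orderOf (z : Equiv.Perm α) = p :=
    orderOf_eq_prime (by rw [← SubmonoidClass.coe_pow, hzp]; rfl) (fun h => hz1 (Subtype.ext h))
  have h2p := hp.out.two_le
  rcases Nat.lt_or_ge p 5 with hp5 | hp5
  · have h3 : p = 3 := by
      have h7 : p ≠ 4 := by
        rintro rfl
        exact absurd hp.out (by decide)
      omega
    subst h3
    refine ⟨2, by decide, ?_⟩
    obtain ⟨σ, hσ⟩ := isConj_iff.1 (isConj_pow hz (k := 2) (by decide))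
    by_cases hs : σ ∈ alternatingGroup α
    · exact isConj_alt hs (by rw [hσ]; rfl)
    -- an odd permutation in the centraliser
    obtain ⟨τ, hτ, hτ'⟩ : ∃ τ ∈ Subgroup.centralizer {(z : Equiv.Perm α)}, τ ∉ alternatingGroup α := by
      by_contra hcon
      push Not at hcon
      have h1 := count_le_one_of_centralizer_le_alternating hcon 3
      have h2 := card_le_of_centralizer_le_alternating hcon
      obtain ⟨a, ha⟩ := cycleType_prime_order (σ := (z : Equiv.Perm α)) (by rw [hz]; exact hp.out)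
      rw [ha, hz, Multiset.count_replicate_self] at h1
      rw [ha, hz, Multiset.sum_replicate, smul_eq_mul] at h2
      omega
    have hτz : τ * z = z * τ := Subgroup.mem_centralizer_singleton_iff.1 hτ
    refine isConj_alt (σ := σ * τ) ?_ ?_
    · rw [mem_alternatingGroup] at hs hτ' ⊢
      rw [map_mul, (Int.units_eq_one_or (sign σ)).resolve_left hs, (Int.units_eq_one_or (sign τ)).resolve_left hτ']
      rfl
    · have e : σ * τ * z * (σ * τ)⁻¹ = σ * (τ * z * τ⁻¹) * σ⁻¹ := by group
      rw [e, hτz, mul_inv_cancel_right, hσ]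
      rfl
  · refine ⟨4, ?_, ?_⟩
    · intro h
      have h3 := (Nat.modEq_iff_dvd' (by omega : 1 ≤ 4)).1 h.symm
      have := Nat.le_of_dvd (by decide) h3
      omega
    · obtain ⟨σ, hσ⟩ := isConj_iff.1 (isConj_pow hz (k := 2) ((Nat.coprime_primes Nat.prime_two hp.out).2 (by omega)))
      refine isConj_alt (σ := σ * σ) ?_ ?_
      · rw [mem_alternatingGroup, map_mul, Int.units_mul_self]
      · have e : σ * σ * z * (σ * σ)⁻¹ = σ * (σ * z * σ⁻¹) * σ⁻¹ := by group
        have e2 : σ * (z : Equiv.Perm α) ^ 2 * σ⁻¹ = (σ * z * σ⁻¹) ^ 2 := by rw [conj_pow]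
        rw [e, hσ, e2, hσ, ← pow_mul]
        rfl

theorem rowS_alternating (hp2 : p ≠ 2) (h5 : 5 ≤ Fintype.card α) (hd : p ∣ Nat.card (alternatingGroup α))
    (hZ : center (alternatingGroup α) = ⊥) : RowS p (alternatingGroup α) :=
  RowS.of_powConj hZ hd fun z h1 h2 => exists_powConj hp2 h5 z h1 h2

end

/-- **The rows of the alternating groups.** -/
theorem rowS_isAlternating {p : ℕ} [hp : Fact p.Prime] (hp2 : p ≠ 2) {S : Type*} [Group S] [Finite S]
    (hZ : center S = ⊥) (hd : p ∣ Nat.card S) (h : IsAlternating S) : RowS p S := by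
  obtain ⟨n, hn, ⟨e⟩⟩ := h
  refine (rowS_alternating hp2 (by rw [Fintype.card_fin]; exact hn) (by rw [← Nat.card_congr e.toEquiv]; exact hd)
    ?_).congr e.symm
  rw [Subgroup.eq_bot_iff_forall] at hZ ⊢
  intro x hx
  have h1 : e.symm x ∈ center S := by
    rw [mem_center_iff] at hx ⊢
    intro g
    apply e.injective
    rw [map_mul, map_mul, e.apply_symm_apply]
    exact hx _
  have h2 := hZ _ h1
  rw [← e.apply_symm_apply x, h2, map_one]

end Cfsg.Agent.H681.GmnAlt
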